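import Cfsg.Agent.Lib.BlocksCore.Local
import Cfsg.Agent.Lib.CharClifford.Galois

/-!
# Existence of modular ideals, values at `p`-elements
-/

namespace Cfsg.Agent.Blocks88

open BlocksCore

theorem exists_isPModular {p : ℕ} (hp : p.Prime) : ∃ M : Ideal AlgInt, IsPModular p M := by
  have hne : Ideal.span {(p : AlgInt)} ≠ ⊤ := by
    intro h
    obtain ⟨a, ha⟩ := Ideal.mem_span_singleton'.mp (h ▸ Submodule.mem_top : (1 : AlgInt) ∈ _)
    have h1 : ((a : ℂ)) = ((1 / p : ℚ) : ℂ) := by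
      have := congrArg (Subtype.val : AlgInt → ℂ) ha
      simp only [MulMemClass.coe_mul, coe_natCast, OneMemClass.coe_one] at this
      push_cast
      rw [eq_div_iff (Nat.cast_ne_zero.mpr hp.ne_zero)]
      exact this
    obtain ⟨k, hk⟩ := CharClifford.exists_int_of_isIntegral_rat (h1 ▸ a.2)
    have : (k * p : ℚ) = 1 := by
      rw [← hk]; field_simp [hp.ne_zero]
    have hdvd : (p : ℤ) ∣ 1 := ⟨k, by
      have : ((1 : ℤ) : ℚ) = ((p * k : ℤ) : ℚ) := by push_cast; linarith
      exact_mod_cast this⟩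
    exact hp.not_dvd_one (Int.natCast_dvd_natCast.mp (by exact_mod_cast hdvd))
  obtain ⟨M, hM, hle⟩ := Ideal.exists_le_maximal _ hne
  exact ⟨M, hp, hM, hle (Ideal.subset_span rfl)⟩

/-- A character at a `p`-element is congruent to its degree. -/
theorem char_sub_degree_mem {G : Type*} [Group G] [Finite G] {p : ℕ} {M : Ideal AlgInt}
    (hM : IsPModular p M) {χ : G → ℂ} (hχ : IsCharacter G χ) {x : G} {k : ℕ}
    (hx : orderOf x = p ^ k) : MemLocalIdeal M (χ x - χ 1) := by
  have := isPrime hM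
  obtain ⟨n, ρ, rfl⟩ := hχ
  obtain ⟨b, μ, hμ, -, h⟩ := CharClifford.exists_eigenvalues ρ x (n := p ^ k)
    (pow_ne_zero k hM.1.ne_zero) (by rw [← hx]; exact pow_orderOf_eq_one x)
  have h1 : ρ.character 1 = ∑ i, μ i ^ 0 := by rw [← h 0, pow_zero]
  have h2 : ρ.character x = ∑ i, μ i := by simpa using h 1
  rw [h1, h2, ← Finset.sum_sub_distrib]
  exact memLocalIdeal_sum fun i _ => by
    rw [pow_zero]; exact memLocalIdeal_sub_one_of_pow hM (hμ i)

end Cfsg.Agent.Blocks88
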