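import Cfsg.Agent.Lib.BlocksCore.Ring
import Cfsg.Agent.Lib.CharClifford.Central
import Cfsg.Agent.Lib.CharCore.Linear
import Mathlib.GroupTheory.GroupAction.ConjAct
import Mathlib.GroupTheory.PGroup
import Mathlib.Algebra.Group.Action.Prod
import Mathlib.GroupTheory.GroupAction.Quotient

/-!
# Relative central characters of an extension from a principal block

`ψ` extends a character of the principal block of the normal subgroup `N`; `A` is the image of
`N` in `ConjAct G` and `Q` a Sylow `p`-subgroup of `A`. We show that `ψ x / ψ 1` is, modulo `M`, a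
homomorphism on the fixed points of `Q`, trivial on the part in `N`.
-/

namespace Cfsg.Agent.Blocks88

open BlocksCore
open scoped Classical

section Orbit

open scoped Classical

variable {A : Type*} [Group A] [Finite A] {β : Type*} [MulAction A β] [Fintype β]

open Classical in
/-- The orbit as a finset. -/
noncomputable def orb (A : Type*) [Group A] {β : Type*} [MulAction A β] [Fintype β] (t : β) :
    Finset β :=
  Finset.univ.filter (· ∈ MulAction.orbit A t)

theorem mem_orb {t u : β} : u ∈ orb A t ↔ u ∈ MulAction.orbit A t := by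
  classical
  simp [orb]

theorem self_mem_orb (t : β) : t ∈ orb A t := mem_orb.mpr (MulAction.mem_orbit_self t)

theorem orb_eq_of_mem {t u : β} (h : u ∈ orb A t) : orb A u = orb A t := by
  ext v
  rw [mem_orb, mem_orb, MulAction.orbit_eq_iff.mpr (mem_orb.mp h)]

theorem smul_mem_orb {t u : β} (h : u ∈ orb A t) (a : A) : a • u ∈ orb A t := by
  obtain ⟨b, rfl⟩ := mem_orb.mp h
  exact mem_orb.mpr ⟨a * b, mul_smul a b t⟩

theorem card_orb (t : β) : (orb A t).card = (MulAction.stabilizer A t).index := by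
  classical
  rw [MulAction.index_stabilizer, ← Set.ncard_coe_finset]
  congr 1
  ext u
  simp [mem_orb]

/-- A sum over an invariant set lies in the ideal if all orbit sums do. -/
theorem sum_mem_of_orbit {M : Ideal AlgInt} [M.IsPrime] {F : β → ℂ} (S : Finset β)
    (hS : ∀ t ∈ S, ∀ a : A, a • t ∈ S) (h : ∀ t ∈ S, MemLocalIdeal M (∑ u ∈ orb A t, F u)) :
    MemLocalIdeal M (∑ t ∈ S, F t) := by
  induction S using Finset.strongInduction with
  | _ S ih =>
    rcases S.eq_empty_or_nonempty with rfl | ⟨t, ht⟩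
    · simpa using memLocalIdeal_zero
    have hsub : orb A t ⊆ S := fun u hu => by
      obtain ⟨a, rfl⟩ := mem_orb.mp hu
      exact hS t ht a
    rw [← Finset.sum_sdiff hsub]
    refine memLocalIdeal_add (ih _ (Finset.sdiff_ssubset hsub ⟨t, self_mem_orb t⟩) ?_ ?_) (h t ht)
    · intro u hu a
      obtain ⟨h1, h2⟩ := Finset.mem_sdiff.mp hu
      refine Finset.mem_sdiff.mpr ⟨hS u h1 a, fun h3 => h2 ?_⟩
      rw [← orb_eq_of_mem h3, mem_orb]
      exact ⟨a⁻¹, inv_smul_smul a u⟩
    · exact fun u hu => h u (Finset.mem_sdiff.mp hu).1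

variable {p : ℕ} [Fact p.Prime] {Q : Subgroup A}

/-- The fixed points of `Q` in an orbit. -/
noncomputable def fixOrb (Q : Subgroup A) (t : β) : Finset β :=
  (orb A t).filter fun u => ∀ q : Q, (q : A) • u = u

theorem mem_fixOrb {t u : β} : u ∈ fixOrb Q t ↔ u ∈ orb A t ∧ ∀ q : Q, (q : A) • u = u := by
  simp [fixOrb]

theorem card_orb_modEq (hQ : IsPGroup p Q) (t : β) :
    (orb A t).card ≡ (fixOrb Q t).card [MOD p] := by
  have h := hQ.card_modEq_card_fixedPoints (MulAction.orbit A t)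
  have h1 : Nat.card (MulAction.orbit A t) = (orb A t).card := by
    rw [← Set.ncard_coe_finset, Nat.card_coe_set_eq]
    congr 1
    ext u; simp [mem_orb]
  rw [h1] at h
  suffices e : Nat.card (MulAction.fixedPoints Q (MulAction.orbit A t)) =
      (fixOrb Q t).card by rwa [e] at h
  rw [← Nat.card_eq_finsetCard]
  refine Nat.card_congr
    { toFun := fun u => ⟨(u.1 : β), mem_fixOrb.mpr ⟨mem_orb.mpr u.1.2,
        fun q => congrArg Subtype.val (u.2 q)⟩⟩
      invFun := fun u => ⟨⟨u.1, mem_orb.mp (mem_fixOrb.mp u.2).1⟩,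
        fun q => Subtype.ext ((mem_fixOrb.mp u.2).2 q)⟩
      left_inv := fun _ => rfl
      right_inv := fun _ => rfl }

theorem exists_fixed_of_not_dvd (hQ : IsPGroup p Q) {t : β} (h : ¬ p ∣ (orb A t).card) :
    ∃ u ∈ orb A t, ∀ q : Q, (q : A) • u = u := by
  classical
  by_contra hno
  push Not at hno
  apply h
  have := card_orb_modEq (β := β) hQ t
  have he : fixOrb Q t = ∅ := Finset.eq_empty_of_forall_notMem fun u hu => by
    obtain ⟨q, hq'⟩ := hno u (mem_fixOrb.mp hu).1
    exact hq' ((mem_fixOrb.mp hu).2 q)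
  rw [he, Finset.card_empty] at this
  exact Nat.modEq_zero_iff_dvd.mp this

theorem not_dvd_card_orb (hQi : ¬ p ∣ Q.index) {t : β} (h : ∀ q : Q, (q : A) • t = t) :
    ¬ p ∣ (orb A t).card := fun hd => hQi (hd.trans (by
  rw [card_orb]
  exact Subgroup.index_dvd_of_le fun q hq => h ⟨q, hq⟩))

end Orbit

open scoped MonoidAlgebra

variable {G : Type*} [Group G] [Fintype G] {n : ℕ} (ρ : Representation ℂ G (Fin n → ℂ))
  {p : ℕ} {M : Ideal AlgInt} (N : Subgroup G) [N.Normal]

/-- The image of `N` in `ConjAct G`. -/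
abbrev conjN : Subgroup (ConjAct G) := N.map (ConjAct.toConjAct : G ≃* ConjAct G).toMonoidHom

/-- The normalised value. -/
noncomputable def ratio (x : G) : ℂ := ρ.character x / ρ.character 1

variable {N}

theorem smul_mem_coset {x : G} (a : conjN N) : x⁻¹ * (a • x) ∈ N := by
  obtain ⟨_, g, hg, rfl⟩ := a
  show x⁻¹ * (g * x * g⁻¹) ∈ N
  rw [← mul_assoc]
  refine N.mul_mem ?_ (N.inv_mem hg)
  simpa [mul_assoc] using ‹N.Normal›.conj_mem g hg x⁻¹

theorem character_smul (a : conjN N) (x : G) : ρ.character (a • x) = ρ.character x := by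
  obtain ⟨_, g, hg, rfl⟩ := a
  exact Representation.char_conj ρ x g

theorem ratio_smul (a : conjN N) (x : G) : ratio ρ (a • x) = ratio ρ x := by
  rw [ratio, ratio, character_smul]

theorem ratio_of_mem_orb {x y : G} (h : y ∈ orb (conjN N) x) : ratio ρ y = ratio ρ x := by
  obtain ⟨a, rfl⟩ := mem_orb.mp h
  exact ratio_smul ρ a x

theorem smul_mul_conj (a : conjN N) (x y : G) : a • (x * y) = (a • x) * (a • y) :=
  smul_mul' (a : ConjAct G) x y

section Irr

variable [hirr : Representation.IsIrreducible (ρ.comp N.subtype : Representation ℂ N (Fin n → ℂ))]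

include hirr in
theorem character_one_ne_zero : ρ.character 1 ≠ 0 := by
  have h := CharClifford.finrank_pos_of_irreducible (ρ.comp N.subtype : Representation ℂ N (Fin n → ℂ))
  rw [Representation.char_one]
  exact Nat.cast_ne_zero.mpr h.ne'

/-- Orbit sums act as scalars. -/
theorem sum_orb_eq (x : G) :
    ∑ y ∈ orb (conjN N) x, ρ y =
      (((orb (conjN N) x).card : ℂ) * ratio ρ x) • (1 : Module.End ℂ (Fin n → ℂ)) := by
  classical
  obtain ⟨c, hc⟩ := CharClifford.exists_scalar_of_commute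
    (ρ.comp N.subtype : Representation ℂ N (Fin n → ℂ)) (∑ y ∈ orb (conjN N) x, ρ y) fun g => by
      show (∑ y ∈ orb (conjN N) x, ρ y) * ρ (g : G) = ρ (g : G) * (∑ y ∈ orb (conjN N) x, ρ y)
      rw [Finset.sum_mul, Finset.mul_sum]
      let a : conjN N := ⟨ConjAct.toConjAct (g : G), Subgroup.mem_map_of_mem _ g.2⟩
      refine Finset.sum_bij' (fun y _ => a⁻¹ • y) (fun y _ => a • y) (fun y hy => ?_)
        (fun y hy => ?_) (fun y _ => smul_inv_smul a y) (fun y _ => inv_smul_smul a y)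
        (fun y _ => ?_)
      · exact smul_mem_orb hy a⁻¹
      · exact smul_mem_orb hy a
      · rw [← map_mul, ← map_mul]
        congr 1
        show y * g = g * ((g : G)⁻¹ * y * ((g : G)⁻¹)⁻¹)
        group
  rw [hc]
  congr 1
  have h1 := congrArg (LinearMap.trace ℂ (Fin n → ℂ)) hc
  rw [map_sum, map_smul, LinearMap.trace_one, smul_eq_mul,
    Finset.sum_congr rfl (g := fun _ => ρ.character x) (fun y hy => by
      obtain ⟨a, rfl⟩ := mem_orb.mp hy
      exact character_smul ρ a x), Finset.sum_const, nsmul_eq_mul] at h1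
  rw [ratio, ← mul_div_assoc, eq_div_iff (character_one_ne_zero ρ (N := N)), h1,
    Representation.char_one]

theorem isIntegral_orb (x : G) : IsIntegral ℤ (((orb (conjN N) x).card : ℂ) * ratio ρ x) := by
  classical
  let φ : ℤ[G] →ₐ[ℤ] Module.End ℂ (Fin n → ℂ) := MonoidAlgebra.lift ℤ _ G ρ
  let s : ℤ[G] := ∑ g ∈ orb (conjN N) x, MonoidAlgebra.single g 1
  have hs : φ s = algebraMap ℂ (Module.End ℂ (Fin n → ℂ))
      (((orb (conjN N) x).card : ℂ) * ratio ρ x) := by
    rw [Algebra.algebraMap_eq_smul_one, ← sum_orb_eq ρ x, map_sum]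
    exact Finset.sum_congr rfl fun g _ => by simp [φ]
  have hfin : Module.Finite ℤ ℤ[G] := inferInstance
  have h := (IsIntegral.of_finite ℤ s).map φ
  rw [hs] at h
  have : Nontrivial (Fin n → ℂ) := Module.nontrivial_of_finrank_pos
    (CharClifford.finrank_pos_of_irreducible (ρ.comp N.subtype : Representation ℂ N (Fin n → ℂ)))
  exact (isIntegral_algebraMap_iff (A := ℂ) (B := Module.End ℂ (Fin n → ℂ))
    (FaithfulSMul.algebraMap_injective ℂ _)).mp h

theorem orb_mul_eq (a b : G) :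
    ((orb (conjN N) a).card : ℂ) * ratio ρ a * (((orb (conjN N) b).card : ℂ) * ratio ρ b) =
      ∑ t ∈ orb (conjN N) a ×ˢ orb (conjN N) b, ratio ρ (t.1 * t.2) := by
  classical
  have h : (∑ x ∈ orb (conjN N) a, ρ x) * (∑ y ∈ orb (conjN N) b, ρ y) =
      ∑ t ∈ orb (conjN N) a ×ˢ orb (conjN N) b, ρ (t.1 * t.2) := by
    rw [Finset.sum_mul_sum, Finset.sum_product]
    simp [map_mul]
  rw [sum_orb_eq, sum_orb_eq, smul_mul_smul_comm, mul_one] at h
  have h1 := congrArg (LinearMap.trace ℂ (Fin n → ℂ)) h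
  rw [map_smul, LinearMap.trace_one, smul_eq_mul, map_sum, ← Representation.char_one ρ] at h1
  simp only [ratio, ← Finset.sum_div]
  rw [eq_div_iff (character_one_ne_zero ρ (N := N))]
  exact h1

/-- Powers of orbit sums. -/
theorem orb_pow_eq (x : G) : ∀ m : ℕ, ∃ K : G → ℕ,
    (∀ (a : conjN N) z, K (a • z) = K z) ∧ (∀ z, K z ≠ 0 → (x ^ m)⁻¹ * z ∈ N) ∧
      ∑ z, K z = (orb (conjN N) x).card ^ m ∧
      (((orb (conjN N) x).card : ℂ) * ratio ρ x) ^ m = ∑ z, (K z : ℂ) * ratio ρ z := by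
  classical
  have hop : ∀ m : ℕ, ∃ K : G → ℕ, (∀ (a : conjN N) z, K (a • z) = K z) ∧
      (∀ z, K z ≠ 0 → (x ^ m)⁻¹ * z ∈ N) ∧ ∑ z, K z = (orb (conjN N) x).card ^ m ∧
      (∑ y ∈ orb (conjN N) x, ρ y) ^ m = ∑ z, (K z : ℂ) • ρ z := by
    intro m
    induction m with
    | zero =>
      refine ⟨fun z => if z = 1 then 1 else 0, fun a z => ?_, fun z hz => ?_, by simp, ?_⟩
      · simp only [smul_eq_iff_eq_inv_smul, smul_one]
      · have : z = 1 := by by_contra h; simp [h] at hz
        simp [this]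
      · rw [pow_zero, Finset.sum_eq_single (1 : G)] <;> simp +contextual
    | succ m ih =>
      obtain ⟨K, h1, h2, h3, h4⟩ := ih
      refine ⟨fun z => ∑ y ∈ orb (conjN N) x, K (z * y⁻¹), fun a z => ?_, fun z hz => ?_, ?_, ?_⟩
      · refine Finset.sum_bij' (fun y _ => a⁻¹ • y) (fun y _ => a • y) (fun y hy => ?_)
          (fun y hy => ?_) (fun y _ => smul_inv_smul a y) (fun y _ => inv_smul_smul a y)
          (fun y _ => ?_)
        · exact smul_mem_orb hy a⁻¹
        · exact smul_mem_orb hy a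
        · have hinv : a • (a⁻¹ • y)⁻¹ = y⁻¹ := by
            show (a : ConjAct G) • ((a⁻¹ : conjN N) • y)⁻¹ = y⁻¹
            rw [smul_inv', ← Subgroup.smul_def, smul_inv_smul]
          conv_rhs => rw [← h1 a, smul_mul_conj, hinv]
      · obtain ⟨y, hy, hyne⟩ := Finset.exists_ne_zero_of_sum_ne_zero hz
        obtain ⟨a, rfl⟩ := mem_orb.mp hy
        have e1 := h2 _ hyne
        have e2 := smul_mem_coset (x := x) a
        have e3 := N.mul_mem (‹N.Normal›.conj_mem _ e1 x⁻¹) e2
        simpa [pow_succ, mul_assoc] using e3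
      · rw [Finset.sum_comm, pow_succ, ← h3, mul_comm, ← smul_eq_mul, ← Finset.sum_const]
        exact Finset.sum_congr rfl fun y _ => Equiv.sum_comp (Equiv.mulRight y⁻¹) K
      · rw [pow_succ, h4, Finset.sum_mul_sum, Finset.sum_comm]
        simp only [Nat.cast_sum, Finset.sum_smul]
        conv_rhs => rw [Finset.sum_comm]
        refine Finset.sum_congr rfl fun y _ => ?_
        rw [← Equiv.sum_comp (Equiv.mulRight y) (fun z => (K (z * y⁻¹) : ℂ) • ρ z)]
        simp [smul_mul_assoc, map_mul]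
  intro m
  obtain ⟨K, h1, h2, h3, h4⟩ := hop m
  refine ⟨K, h1, h2, h3, ?_⟩
  rw [sum_orb_eq, smul_pow, one_pow] at h4
  have h5 := congrArg (LinearMap.trace ℂ (Fin n → ℂ)) h4
  rw [map_smul, LinearMap.trace_one, smul_eq_mul, map_sum, ← Representation.char_one ρ] at h5
  simp only [map_smul, smul_eq_mul] at h5
  replace h5 := (eq_div_iff (character_one_ne_zero ρ (N := N))).mpr h5
  rw [h5, Finset.sum_div]
  exact Finset.sum_congr rfl fun z _ => mul_div_assoc _ _ _

/-- The hypothesis that the restriction to `N` lies in the principal block. -/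
def PrincipalOn (M : Ideal AlgInt) (ρ : Representation ℂ G (Fin n → ℂ)) (N : Subgroup G) : Prop :=
  ∀ K : G → ℕ, (∀ (a : conjN N) z, K (a • z) = K z) →
    MemLocalIdeal M (∑ z ∈ Finset.univ.filter (· ∈ N), ((K z : ℂ) * ratio ρ z - K z))

theorem orb_pow_congr (hpr : PrincipalOn M ρ N) {x : G} {m : ℕ} (hm : x ^ m ∈ N) :
    MemLocalIdeal M ((((orb (conjN N) x).card : ℂ) * ratio ρ x) ^ m -
      ((orb (conjN N) x).card : ℂ) ^ m) := by
  obtain ⟨K, h1, h2, h3, h4⟩ := orb_pow_eq ρ (N := N) x m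
  refine (congrArg (MemLocalIdeal M) ?_).mp (hpr K h1)
  rw [h4, ← Nat.cast_pow, ← h3, Nat.cast_sum, Finset.sum_sub_distrib]
  have hz : ∀ z, z ∉ N → K z = 0 := fun z hz => by
    by_contra h
    exact hz (by simpa using N.mul_mem hm (h2 z h))
  congr 1 <;> rw [Finset.sum_filter] <;> refine Finset.sum_congr rfl fun z _ => ?_ <;>
    by_cases h : z ∈ N <;> simp [h, hz z]

theorem orb_mem_of_dvd (hM : IsPModular p M) (hpr : PrincipalOn M ρ N) {x : G}
    (h : p ∣ (orb (conjN N) x).card) :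
    MemLocalIdeal M (((orb (conjN N) x).card : ℂ) * ratio ρ x) := by
  have := isPrime hM
  have h1 := orb_pow_congr (M := M) ρ hpr (x := x) (m := Nat.card G)
    (by rw [pow_card_eq_one']; exact N.one_mem)
  rw [← memLocalIdeal_pow_iff (memLocalRing_of_isIntegral (isIntegral_orb ρ x)) (Nat.card_pos (α := G)).ne']
  have h2 : MemLocalIdeal M (((orb (conjN N) x).card : ℂ) ^ Nat.card G) :=
    (memLocalIdeal_pow_iff (memLocalRing_natCast _) Nat.card_pos.ne').mpr
      ((memLocalIdeal_natCast_iff hM _).mpr h)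
  simpa using memLocalIdeal_add h1 h2

variable [Fact p.Prime] {Q : Subgroup (conjN N)}

/-- The fixed points. -/
def Fix (Q : Subgroup (conjN N)) : Subgroup G where
  carrier := {x | ∀ q : Q, (q : conjN N) • x = x}
  one_mem' := fun q => smul_one ((q : conjN N) : ConjAct G)
  mul_mem' := fun {x y} hx hy q => by rw [smul_mul_conj, hx q, hy q]
  inv_mem' := fun {x} hx q => by
    show ((q : conjN N) : ConjAct G) • x⁻¹ = x⁻¹
    rw [smul_inv']; exact congrArg _ (hx q)

theorem mem_Fix {x : G} : x ∈ Fix Q ↔ ∀ q : Q, (q : conjN N) • x = x := Iff.rfl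

theorem ratio_fix_memLocalRing (hM : IsPModular p M) (hQi : ¬ p ∣ Q.index) {x : G}
    (hx : x ∈ Fix Q) : MemLocalRing M (ratio ρ x) := by
  classical
  have := isPrime hM
  have h0 := not_dvd_card_orb (A := conjN N) (β := G) hQi hx
  have hne : ((orb (conjN N) x).card : ℂ) ≠ 0 := fun h => h0 (by simp [Nat.cast_eq_zero.mp h])
  rw [← inv_mul_cancel_left₀ hne (ratio ρ x)]
  exact (localRing M).mul_mem (memLocalRing_natCast_inv hM h0)
    (memLocalRing_of_isIntegral (isIntegral_orb ρ x))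

theorem fix_count_ne (hQ : IsPGroup p Q) (hQi : ¬ p ∣ Q.index) {x : G} (hx : x ∈ Fix Q) :
    ¬ p ∣ (fixOrb Q x).card := fun hd =>
  not_dvd_card_orb (A := conjN N) (β := G) hQi hx (Nat.modEq_zero_iff_dvd.mp
    ((card_orb_modEq hQ x).trans (Nat.modEq_zero_iff_dvd.mpr hd)))

set_option maxHeartbeats 800000 in
/-- The Brauer-type congruence for products. -/
theorem mul_congr (hM : IsPModular p M) (hpr : PrincipalOn M ρ N) (hQ : IsPGroup p Q)
    (hQi : ¬ p ∣ Q.index) {a b : G} (ha : a ∈ Fix Q) (hb : b ∈ Fix Q) :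
    MemLocalIdeal M ((fixOrb Q a).card * ratio ρ a *
      ((fixOrb Q b).card * ratio ρ b) -
      ∑ t ∈ fixOrb Q a ×ˢ fixOrb Q b,
        ratio ρ (t.1 * t.2)) := by
  have := isPrime hM
  have hfa := ratio_fix_memLocalRing (M := M) ρ hM hQi ha
  have hfb := ratio_fix_memLocalRing (M := M) ρ hM hQi hb
  have hcnt : ∀ x : G, MemLocalIdeal M
      (((orb (conjN N) x).card : ℂ) - ((fixOrb Q x).card : ℂ)) := by
    intro x
    have h := Nat.modEq_iff_dvd.mp ((card_orb_modEq hQ x).symm)
    have h2 := (memLocalIdeal_intCast_iff hM _).mpr h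
    simpa using h2
  have hfix : ∀ x : G, fixOrb Q x = (orb (conjN N) x).filter (· ∈ Fix Q) := fun x => by
    ext u; rw [mem_fixOrb, Finset.mem_filter, mem_Fix]
  have hpairs : MemLocalIdeal M (∑ t ∈ orb (conjN N) a ×ˢ orb (conjN N) b,
      (ratio ρ (t.1 * t.2) - if t.1 ∈ Fix Q ∧ t.2 ∈ Fix Q then ratio ρ (t.1 * t.2) else 0)) := by
    refine sum_mem_of_orbit (A := conjN N) _ (fun t ht c => ?_) fun t _ => ?_
    · rw [Finset.mem_product] at ht ⊢
      exact ⟨smul_mem_orb ht.1 c, smul_mem_orb ht.2 c⟩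
    set c := t.1 * t.2 with hc
    have hconst : ∀ u ∈ orb (conjN N) t, ratio ρ (u.1 * u.2) = ratio ρ c := fun u hu => by
      obtain ⟨d, rfl⟩ := mem_orb.mp hu
      show ratio ρ (d • t.1 * d • t.2) = _
      rw [← smul_mul_conj, ratio_smul]
    rw [Finset.sum_congr rfl (g := fun u => ratio ρ c - if u.1 ∈ Fix Q ∧ u.2 ∈ Fix Q then ratio ρ c else 0)
      (fun u hu => by rw [hconst u hu]), Finset.sum_sub_distrib, Finset.sum_const,
      ← Finset.sum_filter, Finset.sum_const, nsmul_eq_mul, nsmul_eq_mul]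
    have hfilt : ((orb (conjN N) t).filter fun u => u.1 ∈ Fix Q ∧ u.2 ∈ Fix Q) = fixOrb Q t := by
      ext u
      rw [mem_fixOrb, Finset.mem_filter, mem_Fix, mem_Fix]
      exact and_congr_right fun _ => ⟨fun h q => Prod.ext (h.1 q) (h.2 q),
        fun h => ⟨fun q => congrArg Prod.fst (h q), fun q => congrArg Prod.snd (h q)⟩⟩
    rw [hfilt]
    set s := (orb (conjN N) t).card with hs
    set k := (fixOrb Q t).card with hk
    have hsk : s ≡ k [MOD p] := card_orb_modEq hQ t
    rcases Nat.eq_zero_or_pos k with hk0 | hk0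
    · rw [hk0, Nat.cast_zero, zero_mul, sub_zero]
      have hps : p ∣ s := Nat.modEq_zero_iff_dvd.mp (hk0 ▸ hsk)
      have hst : MulAction.stabilizer (conjN N) t ≤ MulAction.stabilizer (conjN N) c := fun d hd => by
        rw [MulAction.mem_stabilizer_iff] at hd ⊢
        rw [hc, smul_mul_conj, show d • t.1 = t.1 from congrArg Prod.fst hd,
          show d • t.2 = t.2 from congrArg Prod.snd hd]
      set d := (MulAction.stabilizer (conjN N) t).relIndex (MulAction.stabilizer (conjN N) c)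
      have hs' : s = d * (orb (conjN N) c).card := by
        rw [hs, card_orb, card_orb, ← Subgroup.relIndex_mul_index hst]
      rw [hs', Nat.cast_mul, mul_assoc]
      rw [hs'] at hps
      rcases (Fact.out : p.Prime).dvd_mul.mp hps with h | h
      · exact memLocalIdeal_mul_right ((memLocalIdeal_natCast_iff hM _).mpr h)
          (memLocalRing_of_isIntegral (isIntegral_orb ρ c))
      · exact memLocalIdeal_mul_left (memLocalRing_natCast _) (orb_mem_of_dvd ρ hM hpr h)
    · obtain ⟨u, hu⟩ := Finset.card_pos.mp hk0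
      obtain ⟨hu1, hu2⟩ := mem_fixOrb.mp hu
      have hfix : u.1 * u.2 ∈ Fix Q :=
        (Fix Q).mul_mem (fun q => congrArg Prod.fst (hu2 q)) (fun q => congrArg Prod.snd (hu2 q))
      rw [← hconst u hu1, ← sub_mul]
      refine memLocalIdeal_mul_right ?_ (ratio_fix_memLocalRing ρ hM hQi hfix)
      have := (memLocalIdeal_intCast_iff hM _).mpr (Nat.modEq_iff_dvd.mp hsk.symm)
      simpa using this
  rw [Finset.sum_sub_distrib, ← orb_mul_eq, ← Finset.sum_filter, Finset.filter_product, ← hfix a, ← hfix b] at hpairs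
  have key := memLocalIdeal_sub hpairs
    (memLocalIdeal_mul_right
      (memLocalIdeal_add
        (memLocalIdeal_mul_right (hcnt a) (memLocalRing_natCast (orb (conjN N) b).card))
        (memLocalIdeal_mul_left (memLocalRing_natCast (fixOrb Q a).card) (hcnt b)))
      ((localRing M).mul_mem hfa hfb))
  refine (congrArg (MemLocalIdeal M) ?_).mp key
  ring

theorem ratio_congr_one (hM : IsPModular p M) (hpr : PrincipalOn M ρ N) (hQi : ¬ p ∣ Q.index)
    {x : G} (hxN : x ∈ N) (hx : x ∈ Fix Q) : MemLocalIdeal M (ratio ρ x - 1) := by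
  classical
  have := isPrime hM
  have h := orb_pow_congr (M := M) ρ hpr (x := x) (m := 1) (by simpa using hxN)
  have h0 := not_dvd_card_orb (A := conjN N) (β := G) hQi hx
  have hne : ((orb (conjN N) x).card : ℂ) ≠ 0 := fun h => h0 (by simp [Nat.cast_eq_zero.mp h])
  refine (congrArg (MemLocalIdeal M) ?_).mp (memLocalIdeal_mul_left (memLocalRing_natCast_inv hM h0) h)
  field_simp

/-- The product congruence when all products have congruent values. -/
theorem mul_congr_of_const (hM : IsPModular p M) (hpr : PrincipalOn M ρ N) (hQ : IsPGroup p Q)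
    (hQi : ¬ p ∣ Q.index) {a b : G} (ha : a ∈ Fix Q) (hb : b ∈ Fix Q) {z : ℂ}
    (hz : ∀ c ∈ Fix Q, (a * b)⁻¹ * c ∈ N → MemLocalIdeal M (ratio ρ c - z)) :
    MemLocalIdeal M (ratio ρ a * ratio ρ b - z) := by
  classical
  have := isPrime hM
  set Sa := fixOrb Q a
  set Sb := fixOrb Q b
  have hsum : MemLocalIdeal M (∑ t ∈ Sa ×ˢ Sb, (ratio ρ (t.1 * t.2) - z)) := by
    refine memLocalIdeal_sum fun t ht => ?_
    obtain ⟨h1, h2⟩ := Finset.mem_product.mp ht
    obtain ⟨h1, h1'⟩ := mem_fixOrb.mp h1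
    obtain ⟨h2, h2'⟩ := mem_fixOrb.mp h2
    obtain ⟨c, hc⟩ := mem_orb.mp h1
    obtain ⟨d, hd⟩ := mem_orb.mp h2
    refine hz _ ((Fix Q).mul_mem h1' h2') ?_
    have e1 : a⁻¹ * t.1 ∈ N := hc ▸ smul_mem_coset c
    have e2 : b⁻¹ * t.2 ∈ N := hd ▸ smul_mem_coset d
    have := N.mul_mem (‹N.Normal›.conj_mem _ e1 b⁻¹) e2
    simpa [mul_assoc] using this
  have hkey := memLocalIdeal_add (mul_congr (M := M) ρ hM hpr hQ hQi ha hb) hsum
  have hnd : ¬ p ∣ Sa.card * Sb.card := fun h =>
    ((Fact.out : p.Prime).dvd_mul.mp h).elim (fix_count_ne hQ hQi ha) (fix_count_ne hQ hQi hb)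
  have hne : ((Sa.card * Sb.card : ℕ) : ℂ) ≠ 0 := fun h => hnd (by simp [Nat.cast_eq_zero.mp h])
  refine (congrArg (MemLocalIdeal M) ?_).mp
    (memLocalIdeal_mul_left (memLocalRing_natCast_inv hM hnd) hkey)
  rw [Finset.sum_sub_distrib, Finset.sum_const, Finset.card_product, nsmul_eq_mul]
  apply mul_left_cancel₀ hne
  rw [mul_inv_cancel_left₀ hne]
  push_cast
  ring

/-- `ratio` is constant modulo `M` on cosets of `N` in the fixed points. -/
theorem ratio_congr_coset (hM : IsPModular p M) (hpr : PrincipalOn M ρ N) (hQ : IsPGroup p Q)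
    (hQi : ¬ p ∣ Q.index) {x y : G} (hx : x ∈ Fix Q) (hy : y ∈ Fix Q) (hxy : x⁻¹ * y ∈ N) :
    MemLocalIdeal M (ratio ρ y - ratio ρ x) := by
  have := isPrime hM
  have hone : ∀ u ∈ Fix Q, x⁻¹ * u ∈ N → MemLocalIdeal M (ratio ρ u * ratio ρ x⁻¹ - 1) := by
    intro u hu hxu
    refine mul_congr_of_const ρ hM hpr hQ hQi hu ((Fix Q).inv_mem hx) fun c hc hcN => ?_
    refine ratio_congr_one ρ hM hpr hQi ?_ hc
    have hmem : u * x⁻¹ ∈ N := Subgroup.Normal.mem_comm inferInstance hxu
    rw [show c = u * x⁻¹ * ((u * x⁻¹)⁻¹ * c) by group]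
    exact N.mul_mem hmem hcN
  have h1 := hone x hx (by simp)
  have h2 := hone y hy hxy
  refine (congrArg (MemLocalIdeal M) ?_).mp (memLocalIdeal_sub
    (memLocalIdeal_mul_right h2 (ratio_fix_memLocalRing ρ hM hQi hx))
    (memLocalIdeal_mul_right h1 (ratio_fix_memLocalRing ρ hM hQi hy)))
  ring

/-- `ratio` is multiplicative modulo `M` on the fixed points. -/
theorem ratio_congr_mul (hM : IsPModular p M) (hpr : PrincipalOn M ρ N) (hQ : IsPGroup p Q)
    (hQi : ¬ p ∣ Q.index) {a b : G} (ha : a ∈ Fix Q) (hb : b ∈ Fix Q) :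
    MemLocalIdeal M (ratio ρ a * ratio ρ b - ratio ρ (a * b)) :=
  mul_congr_of_const ρ hM hpr hQ hQi ha hb fun c hc hcN =>
    ratio_congr_coset ρ hM hpr hQ hQi ((Fix Q).mul_mem ha hb) hc hcN

/-- If `ratio` is congruent to one on the fixed points then so are all invariant sums. -/
theorem sum_ratio_sub_one_mem (hM : IsPModular p M) (hpr : PrincipalOn M ρ N) (hQ : IsPGroup p Q)
    (h1 : ∀ x ∈ Fix Q, MemLocalIdeal M (ratio ρ x - 1))
    (S : Finset G) (hS : ∀ t ∈ S, ∀ a : conjN N, a • t ∈ S) :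
    MemLocalIdeal M (∑ x ∈ S, (ratio ρ x - 1)) := by
  classical
  have := isPrime hM
  refine sum_mem_of_orbit (A := conjN N) S hS fun x _ => ?_
  rw [Finset.sum_congr rfl (g := fun _ => ratio ρ x - 1)
    (fun y hy => by rw [ratio_of_mem_orb ρ hy]), Finset.sum_const, nsmul_eq_mul]
  by_cases hp : p ∣ (orb (conjN N) x).card
  · rw [mul_sub, mul_one]
    exact memLocalIdeal_sub (orb_mem_of_dvd ρ hM hpr hp) ((memLocalIdeal_natCast_iff hM _).mpr hp)
  · obtain ⟨u, hu, hfix⟩ := exists_fixed_of_not_dvd hQ hp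
    rw [← ratio_of_mem_orb ρ hu]
    exact memLocalIdeal_mul_left (memLocalRing_natCast _) (h1 u hfix)

end Irr

end Cfsg.Agent.Blocks88
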