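import Cfsg.Agent.Blocks88.CliffordGallagher
import Cfsg.Agent.CharDeep.Ext.Wrap
import Cfsg.Agent.Lib.CharClifford.Central
import Cfsg.Agent.Lib.CharClifford.Clifford
import Cfsg.Agent.Lib.CharCore.Glauberman
import Cfsg.Agent.Lib.CharCore.GlaubermanSolvable
import Mathlib.GroupTheory.PGroup
import Mathlib.GroupTheory.GroupAction.Quotient

/-!
# A Glauberman correspondence above a normal Sylow subgroup

A `p`-group `P` acts on `K` fixing a normal `p`-subgroup `Q` of index prime to `p`; `C` consists of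
the elements fixed modulo `Q`.
-/

namespace Cfsg.Agent.Blocks88

open scoped ComplexConjugate

attribute [local instance] Fintype.ofFinite

section Setup

variable {K : Type*} [Group K] [Fintype K] {P : Type*} [Group P] [Finite P] (φ : P →* MulAut K)
  (Q C : Subgroup K)

/-- Invariance of a function on a subgroup under the operators. -/
def InvOn (H : Subgroup K) (f : H → ℂ) : Prop :=
  ∀ (a : P) (h h' : H), (h' : K) = φ a h → f h' = f h

/-- The hypotheses of the correspondence. -/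
structure SylowSetup (p : ℕ) : Prop where
  normal : Q.Normal
  isPGroupP : IsPGroup p P
  isPGroupQ : IsPGroup p Q
  not_dvd : ¬ p ∣ Q.index
  inv : ∀ a, ∀ q ∈ Q, φ a q ∈ Q
  mem_iff : ∀ k, k ∈ C ↔ ∀ a, φ a k * k⁻¹ ∈ Q

variable {φ Q C} {p : ℕ} [Fact p.Prime] (S : SylowSetup φ Q C p)

include S

theorem SylowSetup.le : Q ≤ C := fun q hq => (S.mem_iff q).mpr fun a =>
  Q.mul_mem (S.inv a q hq) (Q.inv_mem hq)

theorem SylowSetup.map_mem (a : P) {c : K} (hc : c ∈ C) : φ a c ∈ C := by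
  have h : φ a c = φ a c * c⁻¹ * c := by group
  rw [h]
  exact C.mul_mem (S.le ((S.mem_iff c).mp hc a)) hc

theorem SylowSetup.inv_iff (a : P) (k : K) : φ a k ∈ Q ↔ k ∈ Q := by
  refine ⟨fun h => ?_, S.inv a k⟩
  have := S.inv a⁻¹ _ h
  rwa [← MulAut.mul_apply, ← map_mul, inv_mul_cancel, map_one, MulAut.one_apply] at this

/-- An invariant coset meets `C`. -/
theorem exists_mem_coset (T : Subgroup K) (hQT : Q ≤ T) (hTinv : ∀ a, ∀ t ∈ T, φ a t ∈ T) (x : K)
    (hx : ∀ a, x⁻¹ * φ a x ∈ T) : ∃ c ∈ C, x⁻¹ * c ∈ T := by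
  have := S.normal
  have hQm : ∀ a : P, Q ≤ Q.comap (φ a).toMonoidHom := fun a q hq => S.inv a q hq
  let _ : MulAction P {q : K ⧸ Q // ∃ t ∈ T, (↑(x * t) : K ⧸ Q) = q} :=
    { smul := fun a q => ⟨QuotientGroup.map Q Q (φ a).toMonoidHom (hQm a) q.1, by
        obtain ⟨t, ht, he⟩ := q.2
        refine ⟨x⁻¹ * φ a (x * t), ?_, ?_⟩
        · rw [map_mul, ← mul_assoc]; exact T.mul_mem (hx a) (hTinv a t ht)
        · rw [← he, mul_inv_cancel_left]; rfl⟩
      one_smul := fun q => Subtype.ext (by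
        obtain ⟨k, hk⟩ := QuotientGroup.mk_surjective q.1
        show QuotientGroup.map Q Q (φ 1).toMonoidHom (hQm 1) q.1 = q.1
        rw [← hk]
        show ((φ 1 k : K) : K ⧸ Q) = k
        rw [map_one, MulAut.one_apply])
      mul_smul := fun a b q => Subtype.ext (by
        obtain ⟨k, hk⟩ := QuotientGroup.mk_surjective q.1
        show QuotientGroup.map Q Q (φ (a * b)).toMonoidHom (hQm _) q.1 =
          QuotientGroup.map Q Q (φ a).toMonoidHom (hQm _)
            (QuotientGroup.map Q Q (φ b).toMonoidHom (hQm _) q.1)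
        rw [← hk]
        show ((φ (a * b) k : K) : K ⧸ Q) = (φ a (φ b k) : K)
        rw [map_mul, MulAut.mul_apply]) }
  have hcard : Nat.card {q : K ⧸ Q // ∃ t ∈ T, (↑(x * t) : K ⧸ Q) = q} =
      Nat.card (T ⧸ Q.subgroupOf T) := by
    symm
    refine Nat.card_eq_of_bijective (Quotient.lift (fun t : T =>
      (⟨(↑(x * t) : K ⧸ Q), t, t.2, rfl⟩ : {q : K ⧸ Q // ∃ t ∈ T, (↑(x * t) : K ⧸ Q) = q}))
      fun a b hab => Subtype.ext (QuotientGroup.eq.mpr ?_)) ⟨?_, ?_⟩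
    · have h := QuotientGroup.leftRel_apply.mp hab
      simpa [mul_assoc, Subgroup.mem_subgroupOf] using h
    · intro a b
      induction a using QuotientGroup.induction_on with
      | H a =>
        induction b using QuotientGroup.induction_on with
        | H b =>
          intro h
          have h' := QuotientGroup.eq.mp (congrArg Subtype.val h)
          exact QuotientGroup.eq.mpr (by simpa [mul_assoc, Subgroup.mem_subgroupOf] using h')
    · rintro ⟨q, t, ht, rfl⟩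
      exact ⟨QuotientGroup.mk (⟨t, ht⟩ : T), rfl⟩
  have hnd : ¬ p ∣ Nat.card {q : K ⧸ Q // ∃ t ∈ T, (↑(x * t) : K ⧸ Q) = q} := by
    rw [hcard, ← Subgroup.index_eq_card]
    exact fun h => S.not_dvd (h.trans ⟨T.index, (Subgroup.relIndex_mul_index hQT).symm⟩)
  obtain ⟨⟨q, t, ht, hq⟩, hfix⟩ := S.isPGroupP.nonempty_fixed_point_of_prime_not_dvd_card _ hnd
  refine ⟨x * t, (S.mem_iff _).mpr fun a => ?_, by rwa [inv_mul_cancel_left]⟩
  have h := congrArg Subtype.val (hfix a)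
  change QuotientGroup.map Q Q (φ a).toMonoidHom (hQm a) q = q at h
  rw [← hq] at h
  rw [← QuotientGroup.eq_one_iff, QuotientGroup.mk_mul, QuotientGroup.mk_inv]
  exact mul_inv_eq_one.mpr h

end Setup

section Positivity

variable {G : Type*} [Group G] [Fintype G]

/-- Constituents of constituents. -/
theorem classInner_ne_zero_trans {A : Type*} [Group A] [Fintype A] (j : A →* G) {χ : G → ℂ}
    (hχ : Cfsg.IsCharacter G χ) (ξ : Cfsg.IrrCharacter G) (θ : Cfsg.IrrCharacter A)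
    (h1 : Cfsg.classInner χ ξ ≠ 0)
    (h2 : Cfsg.classInner (fun a => (ξ : G → ℂ) (j a)) θ ≠ 0) :
    Cfsg.classInner (fun a => χ (j a)) θ ≠ 0 := by
  obtain ⟨m, hm⟩ := CharCore.IsCharacter.exists_sum hχ
  choose c hc using fun ψ : Cfsg.IrrCharacter G =>
    CharCore.IsCharacter.exists_classInner_eq_natCast
      (CharCore.isCharacter_comp (CharCore.irr_isCharacter ψ) j) (CharCore.irr_isCharacter θ)
  rw [show (fun a => χ (j a)) = ∑ ψ, (m ψ : ℂ) • fun a => (ψ : G → ℂ) (j a) from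
    funext fun a => (congrFun hm (j a)).trans (by simp [Finset.sum_apply]),
    CharCore.classInner_sum_left]
  simp only [CharCore.classInner_smul_left, hc, ← Nat.cast_mul, ← Nat.cast_sum, ne_eq,
    Nat.cast_eq_zero]
  intro h
  rcases mul_eq_zero.mp (Finset.sum_eq_zero_iff.mp h ξ (Finset.mem_univ _)) with h' | h'
  · exact h1 (by rw [hm, CharCore.classInner_sum_all, h', Nat.cast_zero])
  · exact h2 ((hc ξ).trans (by rw [h', Nat.cast_zero]))

/-- Restricting the inner product to a subgroup normal in both. -/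
theorem classInner_subgroupOf {H L : Subgroup G} (hHL : H ≤ L) (f : G → ℂ) (θ : H → ℂ) :
    Cfsg.classInner (fun n : H.subgroupOf L => f ((n : L) : G))
        (fun n => θ (Subgroup.subgroupOfEquivOfLe hHL n)) =
      Cfsg.classInner (fun n : H => f n) θ := by
  simp only [CharCore.classInner_def]
  rw [Nat.card_congr (Subgroup.subgroupOfEquivOfLe hHL).toEquiv]
  congr 1
  exact Fintype.sum_equiv (Subgroup.subgroupOfEquivOfLe hHL).toEquiv _ _ fun n => rfl

/-- An automorphism fixing `H` maps induced functions accordingly. -/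
theorem indFun_comp_aut (H : Subgroup G) (α : G ≃* G) (hα : ∀ g, α g ∈ H ↔ g ∈ H) (f : H → ℂ)
    (hf : ∀ h h' : H, (h' : G) = α h → f h' = f h) (g : G) :
    Cfsg.indFun H f (α g) = Cfsg.indFun H f g := by
  rw [CharInd.indFun_apply, CharInd.indFun_apply]
  congr 1
  refine (Fintype.sum_equiv α.toEquiv _ _ fun x => ?_).symm
  show _ = Cfsg.extendByZero H f ((α x)⁻¹ * α g * α x)
  rw [← map_inv, ← map_mul, ← map_mul]
  by_cases h : x⁻¹ * g * x ∈ H
  · rw [CharInd.extendByZero_mem _ h, CharInd.extendByZero_mem _ ((hα _).mpr h)]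
    exact (hf ⟨_, h⟩ ⟨_, (hα _).mpr h⟩ rfl).symm
  · rw [CharInd.extendByZero_notMem _ h,
      CharInd.extendByZero_notMem _ (fun h' => h ((hα _).mp h'))]

end Positivity

section Main

variable {K : Type*} [Group K] [Fintype K] {P : Type*} [Group P] [Finite P] {φ : P →* MulAut K}
  {Q C : Subgroup K} {p : ℕ} [Fact p.Prime] (S : SylowSetup φ Q C p)

include S

/-- Over an invariant character of a subgroup there is an invariant constituent on `Q`. -/
theorem exists_inv_constituent (L : Subgroup K) (hQL : Q ≤ L) (hLinv : ∀ a, ∀ l ∈ L, φ a l ∈ L)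
    (ξ : Cfsg.IrrCharacter L) (hξ : InvOn φ L (ξ : L → ℂ)) :
    ∃ ϑ : Cfsg.IrrCharacter Q, InvOn φ Q (ϑ : Q → ℂ) ∧
      Cfsg.classInner (fun n : Q => (ξ : L → ℂ) ⟨n, hQL n.2⟩) ϑ ≠ 0 := by
  have := S.normal
  obtain ⟨ϑ₀, hϑ₀⟩ := CharClifford.exists_constituent
    (CharCore.isCharacter_comp (CharCore.irr_isCharacter ξ) (Subgroup.inclusion hQL))
    (by show (ξ : L → ℂ) (Subgroup.inclusion hQL 1) ≠ 0
        rw [map_one]; exact CharCore.irr_apply_one_ne_zero ξ)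
  change Cfsg.classInner (fun n : Q => (ξ : L → ℂ) ⟨n, hQL n.2⟩) ϑ₀ ≠ 0 at hϑ₀
  -- the conjugation action of `L` on the characters of `Q`
  let β : L →* MulAut Q := (MulAut.conjNormal (G := K) (H := Q)).comp L.subtype
  let _ : MulAction L (Cfsg.IrrCharacter Q) := CharCore.irrAction β
  let α : P →* MulAut Q := CharCore.restrictAut φ Q S.inv
  let actP : MulAction P (Cfsg.IrrCharacter Q) := CharCore.irrAction α
  let O := {θ : Cfsg.IrrCharacter Q //
    Cfsg.classInner (fun n : Q => (ξ : L → ℂ) ⟨n, hQL n.2⟩) θ ≠ 0}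
  have hLconj : ∀ (l : L) (θ : Cfsg.IrrCharacter Q),
      Cfsg.classInner (fun n : Q => (ξ : L → ℂ) ⟨n, hQL n.2⟩) ((l • θ : Cfsg.IrrCharacter Q) : Q → ℂ) =
      Cfsg.classInner (fun n : Q => (ξ : L → ℂ) ⟨n, hQL n.2⟩) θ := by
    intro l θ
    simp only [CharCore.classInner_def]
    congr 1
    refine Fintype.sum_equiv ((β l)⁻¹).toEquiv _ _ fun n => ?_
    show _ = (ξ : L → ℂ) ⟨((β l)⁻¹ n : Q), _⟩ * conj ((θ : Q → ℂ) ((β l)⁻¹ n))
    congr 1
    rw [← CharCore.irr_isClassFunction ξ ⟨n, hQL n.2⟩ l⁻¹]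
    exact congrArg (ξ : L → ℂ) (Subtype.ext (by simp [β, MulAut.conjNormal_inv_apply]))
  have horbit : MulAction.orbit L ϑ₀ =
      {θ : Cfsg.IrrCharacter Q | Cfsg.classInner (fun n : Q => (ξ : L → ℂ) ⟨n, hQL n.2⟩) (θ : Q → ℂ) ≠ 0} := by
    ext θ
    constructor
    · rintro ⟨l, rfl⟩
      exact fun h => hϑ₀ ((hLconj l ϑ₀).symm.trans h)
    · intro hθ
      have : (Q.subgroupOf L).Normal := Subgroup.normal_subgroupOf
      let e := Subgroup.subgroupOfEquivOfLe hQL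
      have hcl : ∀ θ' : Cfsg.IrrCharacter Q, Cfsg.classInner
          (fun n : Q.subgroupOf L => (ξ : L → ℂ) n) (fun n => (θ' : Q → ℂ) (e n)) =
          Cfsg.classInner (fun n : Q => (ξ : L → ℂ) ⟨n, hQL n.2⟩) θ' := fun θ' => by
        simp only [CharCore.classInner_def]
        rw [Nat.card_congr e.toEquiv]
        congr 1
        exact Fintype.sum_equiv e.toEquiv _ _ fun n => rfl
      obtain ⟨x, hx⟩ := CharClifford.exists_conjFun_eq_of_constituents (Q.subgroupOf L) ξ.2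
        (CharCore.isIrrCharacter_comp_surjective ϑ₀.2 e.toMonoidHom e.surjective)
        (CharCore.isIrrCharacter_comp_surjective θ.2 e.toMonoidHom e.surjective)
        ((hcl ϑ₀).trans_ne hϑ₀) ((hcl θ).trans_ne hθ)
      refine ⟨x⁻¹, Subtype.ext (funext fun n => ?_)⟩
      have h := congrFun hx (e.symm n)
      simp only [CharClifford.conjFun_apply] at h
      show (ϑ₀ : Q → ℂ) ((β x⁻¹)⁻¹ n) = (θ : Q → ℂ) n
      rw [← map_inv, inv_inv]
      have h' : (θ : Q → ℂ) n = (ϑ₀ : Q → ℂ) (β x n) := by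
        refine (congrArg (θ : Q → ℂ) (e.apply_symm_apply n).symm).trans (h.trans ?_)
        exact congrArg (ϑ₀ : Q → ℂ) (Subtype.ext (by simp [e, β, MulAut.conjNormal_apply]))
      exact h'.symm
  have hnd : ¬ p ∣ Nat.card O := by
    have hst : Q.subgroupOf L ≤ MulAction.stabilizer L ϑ₀ := by
      intro q hq
      rw [MulAction.mem_stabilizer_iff]
      refine Subtype.ext (funext fun n => ?_)
      show (ϑ₀ : Q → ℂ) ((β q)⁻¹ n) = (ϑ₀ : Q → ℂ) n
      rw [← CharCore.irr_isClassFunction ϑ₀ n ⟨(q : K)⁻¹, Q.inv_mem hq⟩]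
      exact congrArg (ϑ₀ : Q → ℂ) (Subtype.ext (by simp [β, MulAut.conjNormal_inv_apply]))
    intro h
    apply S.not_dvd
    have h1 : Nat.card O = (MulAction.stabilizer L ϑ₀).index := by
      rw [MulAction.index_stabilizer, ← Nat.card_coe_set_eq, horbit]
      rfl
    exact (h.trans (h1 ▸ Subgroup.index_dvd_of_le hst)).trans
      ⟨L.index, (Subgroup.relIndex_mul_index hQL).symm⟩
  let _ : MulAction P O :=
    { smul := fun a θ => ⟨a • θ.1, fun h => θ.2 (by
        refine Eq.trans ?_ h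
        simp only [CharCore.classInner_def]
        congr 1
        refine Fintype.sum_equiv (α a).toEquiv _ _ fun n => ?_
        show _ = (ξ : L → ℂ) ⟨(α a n : Q), _⟩ * conj ((θ.1 : Q → ℂ) ((α a)⁻¹ (α a n)))
        rw [hξ a ⟨n, hQL n.2⟩ ⟨(α a n : Q), hQL (α a n).2⟩ rfl, MulAut.inv_apply_self])⟩
      one_smul := fun θ => Subtype.ext (one_smul P θ.1)
      mul_smul := fun a b θ => Subtype.ext (mul_smul a b θ.1) }
  obtain ⟨θ, hθ⟩ := S.isPGroupP.nonempty_fixed_point_of_prime_not_dvd_card O hnd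
  refine ⟨θ.1, fun a h h' hh => ?_, θ.2⟩
  have h1 := congrFun (congrArg Subtype.val (congrArg Subtype.val (hθ a))) h'
  rw [← h1]
  show (θ.1 : Q → ℂ) ((α a)⁻¹ h') = _
  rw [show h' = α a h from Subtype.ext hh, MulAut.inv_apply_self]

variable (ϑ : Cfsg.IrrCharacter Q)

/-- Multiplicity above `ϑ`: the correspondence on the inertia quotient. -/
theorem over_spec (hϑ : InvOn φ Q (ϑ : Q → ℂ)) :
    (∀ χ : Cfsg.IrrCharacter K, (∀ a k, (χ : K → ℂ) (φ a k) = (χ : K → ℂ) k) →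
      Cfsg.classInner (fun n : Q => (χ : K → ℂ) n) ϑ ≠ 0 →
      ∃ ξ : Cfsg.IrrCharacter C, InvOn φ C (ξ : C → ℂ) ∧
        (∃ m : ℕ, Cfsg.classInner (fun c : C => (χ : K → ℂ) c) ξ = m ∧
          ((m : ℤ) ≡ 1 [ZMOD p] ∨ (m : ℤ) ≡ -1 [ZMOD p])) ∧
        ∀ ξ' : Cfsg.IrrCharacter C,
          Cfsg.classInner (fun n : Q => (ξ' : C → ℂ) ⟨n, S.le n.2⟩) ϑ ≠ 0 →
          ∀ m : ℕ, Cfsg.classInner (fun c : C => (χ : K → ℂ) c) ξ' = m → ¬ p ∣ m → ξ' = ξ) ∧
    (∀ ξ : Cfsg.IrrCharacter C, Cfsg.classInner (fun n : Q => (ξ : C → ℂ) ⟨n, S.le n.2⟩) ϑ ≠ 0 →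
      ∃ χ : Cfsg.IrrCharacter K, (∀ a k, (χ : K → ℂ) (φ a k) = (χ : K → ℂ) k) ∧
        (∃ m : ℕ, Cfsg.classInner (fun c : C => (χ : K → ℂ) c) ξ = m ∧ ¬ p ∣ m) ∧
        ∀ χ' : Cfsg.IrrCharacter K, (∀ a k, (χ' : K → ℂ) (φ a k) = (χ' : K → ℂ) k) →
          Cfsg.classInner (fun n : Q => (χ' : K → ℂ) n) ϑ ≠ 0 →
          ∀ m : ℕ, Cfsg.classInner (fun c : C => (χ' : K → ℂ) c) ξ = m → ¬ p ∣ m → χ' = χ) := by
  have := S.normal
  have hp : p.Prime := Fact.out
  -- inertia group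
  let T : Subgroup K :=
    { carrier := {g | CharClifford.conjFun Q g (ϑ : Q → ℂ) = ϑ}
      one_mem' := CharClifford.conjFun_one Q _
      mul_mem' := fun {x y} hx hy => by
        show CharClifford.conjFun Q (x * y) (ϑ : Q → ℂ) = ϑ
        funext n
        have h1 := congrFun hy n
        have h2 := congrFun hx ⟨y * n * y⁻¹, Subgroup.Normal.conj_mem S.normal _ n.2 y⟩
        rw [CharClifford.conjFun_apply] at h1 h2 ⊢
        rw [← h1, ← h2]
        exact congrArg (ϑ : Q → ℂ) (Subtype.ext (by group))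
      inv_mem' := fun {x} hx => by
        show CharClifford.conjFun Q x⁻¹ (ϑ : Q → ℂ) = ϑ
        funext n
        have h1 := congrFun hx ⟨x⁻¹ * n * x⁻¹⁻¹, Subgroup.Normal.conj_mem S.normal _ n.2 x⁻¹⟩
        rw [CharClifford.conjFun_apply] at h1 ⊢
        rw [← h1]
        exact congrArg (ϑ : Q → ℂ) (Subtype.ext (by group)) }
  have hT : ∀ g : K, g ∈ T ↔ ∀ n : Q,
      (ϑ : Q → ℂ) ⟨g * n * g⁻¹, S.normal.conj_mem (n : K) n.2 g⟩ = (ϑ : Q → ℂ) n := fun g =>
    funext_iff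
  have hQT : Q ≤ T := fun q hq => (hT q).mpr fun n =>
    CharCore.irr_isClassFunction ϑ n ⟨q, hq⟩
  have hTinv : ∀ a, ∀ t ∈ T, φ a t ∈ T := by
    intro a t ht
    rw [hT] at ht ⊢
    intro n
    have hn : φ a⁻¹ n ∈ Q := S.inv _ _ n.2
    have h1 := hϑ a ⟨t * φ a⁻¹ n * t⁻¹, S.normal.conj_mem _ hn t⟩
      ⟨φ a t * n * (φ a t)⁻¹, S.normal.conj_mem _ n.2 _⟩ (by
        have e1 : φ a (φ a⁻¹ (n : K)) = n := by simp
        show φ a t * (n : K) * (φ a t)⁻¹ = φ a (t * φ a⁻¹ n * t⁻¹)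
        rw [map_mul, map_mul, map_inv (φ a) t, e1])
    rw [h1, ht ⟨φ a⁻¹ n, hn⟩]
    exact hϑ a⁻¹ n ⟨φ a⁻¹ n, hn⟩ rfl
  let φT : P →* MulAut T := CharCore.restrictAut φ T hTinv
  set QT := Q.subgroupOf T with hQTdef
  have : QT.Normal := Subgroup.normal_subgroupOf
  -- invariant extension
  have hcard : ∃ b : ℕ, Nat.card Q = p ^ b := S.isPGroupQ.exists_card_eq
  have hdvdT : QT.index ∣ Q.index := ⟨T.index, (Subgroup.relIndex_mul_index hQT).symm⟩
  have hTcop : ¬ p ∣ QT.index := fun h => S.not_dvd (h.trans hdvdT)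
  obtain ⟨d, -, hdQ, hd⟩ := CharClifford.exists_degree_dvd_card ϑ.2
  let e := Subgroup.subgroupOfEquivOfLe hQT
  let ϑT : QT → ℂ := fun n => (ϑ : Q → ℂ) (e n)
  have hϑT : Cfsg.IsIrrCharacter QT ϑT :=
    CharCore.isIrrCharacter_comp_surjective ϑ.2 e.toMonoidHom e.surjective
  have hinvT : CharDeep.Ext.Inv QT ϑT := fun g n => (hT g).mp g.2 (e n)
  have hdet : Cfsg.detOrder ϑT ∣ Nat.card QT := by
    rw [CharDeep.Ext.detOrder_eq]
    exact orderOf_dvd_of_pow_eq_one (MonoidHom.ext fun n => by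
      rw [MonoidHom.pow_apply, ← map_pow, pow_card_eq_one', map_one, MonoidHom.one_apply])
  have hcop : Nat.Coprime QT.index (Cfsg.detOrder ϑT * d) := by
    obtain ⟨b, hb⟩ := hcard
    have h2 : Nat.card QT = Nat.card Q := Nat.card_congr e.toEquiv
    exact ((Nat.Coprime.pow_right b (hp.coprime_iff_not_dvd.mpr hTcop).symm).coprime_dvd_right
      (hb ▸ h2 ▸ hdet)).mul_right ((Nat.Coprime.pow_right b
      (hp.coprime_iff_not_dvd.mpr hTcop).symm).coprime_dvd_right (hb ▸ hdQ))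
  obtain ⟨η, ⟨hη, hηext', hηdet⟩, hηuniq⟩ := CharDeep.Ext.exists_ext_detOrder QT hϑT hinvT
    (d := d) (show (ϑ : Q → ℂ) (e 1) = _ by rw [map_one]; exact hd) hcop
  have hηext : ∀ n : Q, η ⟨n, hQT n.2⟩ = (ϑ : Q → ℂ) n := fun n => hηext' ⟨⟨n, hQT n.2⟩, n.2⟩
  have hηinv : ∀ a t, η (φT a t) = η t := by
    intro a t
    have h := hηuniq (fun t => η (φT a t))
      (CharCore.isIrrCharacter_comp_surjective hη (φT a).toMonoidHom (φT a).surjective)
      (fun n => by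
        show η (φT a n) = ϑT n
        rw [show φT a n = ⟨((φT a n : T) : K), (φT a n).2⟩ from rfl]
        exact (hηext ⟨_, S.inv a _ n.2⟩).trans (hϑ a (e n) ⟨_, S.inv a _ n.2⟩ rfl))
      (by
        have hd1 : Cfsg.detOrder (fun t => η (φT a t)) ∣ Cfsg.detOrder η := by
          rw [CharDeep.Ext.detOrder_eq, CharDeep.Ext.detOrder_eq,
            show CharDeep.Ext.detHom (fun t => η (φT a t)) =
              (CharDeep.Ext.detHom η).comp (φT a).toMonoidHom from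
              CharDeep.Ext.detHom_comp (CharCore.IsIrrCharacter.isCharacter hη) (φT a).toMonoidHom]
          exact orderOf_dvd_of_pow_eq_one (MonoidHom.ext fun x =>
            DFunLike.congr_fun (pow_orderOf_eq_one (CharDeep.Ext.detHom η)) (φT a x))
        exact (hηdet ▸ hcop.coprime_dvd_right (dvd_mul_right _ _)).coprime_dvd_right hd1)
    exact congrFun h t
  -- the part on `C`
  set D : Subgroup C := T.subgroupOf C with hDdef
  set QC : Subgroup C := Q.subgroupOf C with hQCdef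
  have : QC.Normal := Subgroup.normal_subgroupOf
  have hQD : QC ≤ D := fun x hx => hQT hx
  let j : D →* T :=
    { toFun := fun x => ⟨((x : C) : K), x.2⟩, map_one' := rfl, map_mul' := fun _ _ => rfl }
  have hj : Function.Injective j := fun x y h =>
    Subtype.ext (Subtype.ext (congrArg Subtype.val h :))
  set QD := QC.subgroupOf D with hQDdef
  have : QD.Normal := Subgroup.normal_subgroupOf
  have hQTj : QT ≤ j.range := fun t ht => ⟨⟨⟨t, S.le ht⟩, t.2⟩, rfl⟩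
  let eC := Subgroup.subgroupOfEquivOfLe S.le
  let ϑC : QC → ℂ := fun n => (ϑ : Q → ℂ) (eC n)
  have hϑC : Cfsg.IsIrrCharacter QC ϑC :=
    CharCore.isIrrCharacter_comp_surjective ϑ.2 eC.toMonoidHom eC.surjective
  have hD : ∀ c : C, c ∈ D ↔ ∀ n : QC,
      ϑC ⟨c * n * c⁻¹, Subgroup.Normal.conj_mem inferInstance (n : C) n.2 c⟩ = ϑC n := fun c =>
    (hT (c : K)).trans ⟨fun h n => h (eC n), fun h n => h ⟨⟨n, S.le n.2⟩, n.2⟩⟩
  let ηD : D → ℂ := fun x => η (j x)
  have hηDext : ∀ n : QC, ηD ⟨n, hQD n.2⟩ = ϑC n := fun n => hηext (eC n)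
  have hηD : Cfsg.IsIrrCharacter D ηD := by
    refine CharDeep.Ext.isIrrCharacter_of_restrict QD
      (CharCore.isCharacter_comp (CharCore.IsIrrCharacter.isCharacter hη) j) ?_
    rw [show (fun x : QD => η (j x)) = fun x => ϑC (Subgroup.subgroupOfEquivOfLe hQD x) from
      funext fun x => hηDext ⟨_, x.2⟩]
    exact CharCore.isIrrCharacter_comp_surjective hϑC
      (Subgroup.subgroupOfEquivOfLe hQD).toMonoidHom (Subgroup.subgroupOfEquivOfLe hQD).surjective
  -- the coprime quotient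
  let ι : D ⧸ QD →* T ⧸ QT := QuotientGroup.map QD QT j (fun x hx => hx)
  have hι : Function.Injective ι := by
    refine (injective_iff_map_eq_one ι).mpr fun x => ?_
    induction x using QuotientGroup.induction_on with
    | H x =>
      intro h
      rw [QuotientGroup.eq_one_iff]
      exact (QuotientGroup.eq_one_iff (N := QT) (j x)).mp h
  have hQTinv : ∀ a, QT.map (φT a).toMonoidHom = QT := by
    intro a
    ext t
    rw [Subgroup.mem_map_equiv]
    show (((φT a).symm t : T) : K) ∈ Q ↔ (t : K) ∈ Q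
    rw [← S.inv_iff a (((φT a).symm t : T) : K),
      show φ a (((φT a).symm t : T) : K) = ((φT a ((φT a).symm t) : T) : K) from rfl,
      MulEquiv.apply_symm_apply]
  let ψ : P →* MulAut (T ⧸ QT) :=
    { toFun := fun a => QuotientGroup.congr QT QT (φT a) (hQTinv a)
      map_one' := MulEquiv.ext fun x => QuotientGroup.induction_on x fun t => by
        show ((φT 1 t : T) : T ⧸ QT) = t
        rw [map_one, MulAut.one_apply]
      map_mul' := fun a b => MulEquiv.ext fun x => QuotientGroup.induction_on x fun t => by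
        show ((φT (a * b) t : T) : T ⧸ QT) = ((φT a (φT b t) : T) : T ⧸ QT)
        rw [map_mul, MulAut.mul_apply] }
  have hfix : ∀ g : T ⧸ QT, g ∈ ι.range ↔ ∀ a, ψ a g = g := by
    intro g
    induction g using QuotientGroup.induction_on with
    | H t =>
      have key : ∀ a, ψ a (t : T ⧸ QT) = t ↔ φ a (t : K) * (t : K)⁻¹ ∈ Q := fun a => by
        show ((φT a t : T) : T ⧸ QT) = t ↔ _
        rw [← mul_inv_eq_one, ← QuotientGroup.mk_inv, ← QuotientGroup.mk_mul,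
          QuotientGroup.eq_one_iff]
        rfl
      constructor
      · rintro ⟨x, hx⟩ a
        induction x using QuotientGroup.induction_on with
        | H x =>
          change ((j x : T) : T ⧸ QT) = t at hx
          rw [← hx]
          show ((φT a (j x) : T) : T ⧸ QT) = _
          rw [← mul_inv_eq_one, ← QuotientGroup.mk_inv, ← QuotientGroup.mk_mul,
            QuotientGroup.eq_one_iff]
          exact (S.mem_iff _).mp (x : C).2 a
      · intro h
        exact ⟨((⟨⟨t, (S.mem_iff _).mpr fun a => (key a).mp (h a)⟩, t.2⟩ : D) : D ⧸ QD), rfl⟩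
  have hpT : ¬ p ∣ Nat.card (T ⧸ QT) := by rwa [← Subgroup.index_eq_card]
  -- data attached to characters
  have hKpart : ∀ χ : Cfsg.IrrCharacter K, Cfsg.classInner (fun n : Q => (χ : K → ℂ) n) ϑ ≠ 0 →
      ∃ b : Cfsg.IrrCharacter (T ⧸ QT), (fun t : T => (b : T ⧸ QT → ℂ) t) = part Q T η (χ : K → ℂ) ∧
        Cfsg.indFun T (part Q T η (χ : K → ℂ) * η) = χ := by
    intro χ hχ
    obtain ⟨h1, h2, -⟩ := part_spec Q ϑ.2 T hT hQT hη hηext χ.2 hχ
    obtain ⟨b, -, hb, hbe⟩ := CharCore.IsCharacter.exists_quotient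
      (CharCore.IsIrrCharacter.isCharacter h1) QT (fun k hk => by
        have h := part_mul_left Q T (η := η) (χ : K → ℂ) ⟨k, hk⟩ 1
        simpa using h)
    exact ⟨⟨b, hb h1⟩, funext fun t => (hbe t).symm, h2⟩
  have hCpart : ∀ ξ : Cfsg.IrrCharacter C,
      Cfsg.classInner (fun n : Q => (ξ : C → ℂ) ⟨n, S.le n.2⟩) ϑ ≠ 0 →
      ∃ g : Cfsg.IrrCharacter (D ⧸ QD), (fun x : D => (g : D ⧸ QD → ℂ) x) = part QC D ηD (ξ : C → ℂ) ∧
        Cfsg.indFun D (part QC D ηD (ξ : C → ℂ) * ηD) = ξ := by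
    intro ξ hξ
    have hξ' : Cfsg.classInner (fun n : QC => (ξ : C → ℂ) n) ϑC ≠ 0 := by
      refine fun h => hξ (Eq.trans ?_ h)
      simp only [CharCore.classInner_def]
      rw [Nat.card_congr eC.toEquiv]
      congr 1
      exact (Fintype.sum_equiv eC.toEquiv _ _ fun n => rfl).symm
    obtain ⟨h1, h2, -⟩ := part_spec QC hϑC D hD hQD hηD hηDext ξ.2 hξ'
    obtain ⟨g, -, hg, hge⟩ := CharCore.IsCharacter.exists_quotient
      (CharCore.IsIrrCharacter.isCharacter h1) QD (fun k hk => by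
        have h := part_mul_left QC D (η := ηD) (ξ : C → ℂ) ⟨k, hk⟩ 1
        simpa using h)
    exact ⟨⟨g, hg h1⟩, funext fun t => (hge t).symm, h2⟩
  have hmult : ∀ (χ : Cfsg.IrrCharacter K) (ξ : Cfsg.IrrCharacter C)
      (b : Cfsg.IrrCharacter (T ⧸ QT)) (g : Cfsg.IrrCharacter (D ⧸ QD)),
      (fun t : T => (b : T ⧸ QT → ℂ) t) = part Q T η (χ : K → ℂ) →
      Cfsg.indFun D ((fun x : D => (g : D ⧸ QD → ℂ) x) * ηD) = ξ →
      Cfsg.classInner (fun c : C => (χ : K → ℂ) c) ξ =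
        Cfsg.classInner (fun x : D ⧸ QD => (b : T ⧸ QT → ℂ) (ι x)) g := by
    intro χ ξ b g hb hξ
    rw [← hξ, CharInd.classInner_indFun_right D _ (CharCore.IsCharacter.isClassFunction
      (CharCore.isCharacter_restrict (CharCore.irr_isCharacter χ) C)),
      ← classInner_part QC D (η := ηD) (fun c : C => (χ : K → ℂ) c)
        (fun n t => congrArg (g : D ⧸ QD → ℂ) (QuotientGroup.eq.mpr (by
          have := Subgroup.Normal.conj_mem (H := QD) inferInstance _ (QD.inv_mem n.2) t⁻¹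
          simpa [mul_assoc] using this))),
      ← classInner_comp_mk QD (fun x : D ⧸ QD => (b : T ⧸ QT → ℂ) (ι x)) g]
    congr 1
    funext x
    show _ = (fun t : T => (b : T ⧸ QT → ℂ) t) (j x)
    rw [hb]
    exact avg_comp j hj QT QD rfl hQTj (fun t : T => (χ : K → ℂ) t * conj (η t)) x
  have hχinv : ∀ b : Cfsg.IrrCharacter (T ⧸ QT), CharCore.IsInvFun ψ (b : T ⧸ QT → ℂ) →
      ∀ a k, Cfsg.indFun T ((fun t : T => (b : T ⧸ QT → ℂ) t) * η) (φ a k) =
        Cfsg.indFun T ((fun t : T => (b : T ⧸ QT → ℂ) t) * η) k := by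
    intro b hb a k
    refine indFun_comp_aut T (φ a) (fun g => ⟨fun h => ?_, hTinv a g⟩) _ (fun h h' hh => ?_) k
    · have := hTinv a⁻¹ _ h
      rwa [← MulAut.mul_apply, ← map_mul, inv_mul_cancel, map_one, MulAut.one_apply] at this
    · rw [show h' = φT a h from Subtype.ext hh, Pi.mul_apply, Pi.mul_apply, hηinv a h]
      congr 1
      exact hb a (h : T ⧸ QT)
  refine ⟨fun χ hχ hover => ?_, fun ξ hover => ?_⟩
  · obtain ⟨b, hb, -⟩ := hKpart χ hover
    have hbinv : CharCore.IsInvFun ψ (b : T ⧸ QT → ℂ) := fun a x =>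
      QuotientGroup.induction_on x fun t => by
        show (fun t : T => (b : T ⧸ QT → ℂ) t) (φT a t) = (fun t : T => (b : T ⧸ QT → ℂ) t) t
        rw [hb]
        have h := avg_comp (φT a).toMonoidHom (φT a).injective QT QT
          (by ext u; exact (S.inv_iff a (u : K)).symm) (fun u _ => (φT a).surjective u)
          (fun t : T => (χ : K → ℂ) t * conj (η t)) t
        refine h.symm.trans ?_
        show CharDeep.Ext.avg QT (fun x => (χ : K → ℂ) (φ a (x : K)) * conj (η (φT a x))) t = _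
        simp only [hηinv, hχ]
        rfl
    obtain ⟨g, hg⟩ := CharCore.exists_glauber hι hfix S.isPGroupP hpT hbinv
    obtain ⟨m, hm, hpm⟩ := hg
    have hg' : Cfsg.IsIrrCharacter D (fun x : D => (g : D ⧸ QD → ℂ) x) :=
      CharCore.isIrrCharacter_comp_surjective g.2 (QuotientGroup.mk' QD)
        (QuotientGroup.mk'_surjective QD)
    obtain ⟨hξ, hξover, hξpart⟩ := ind_spec QC hϑC D hD hQD hηD hηDext hg'
      (fun n t => congrArg (g : D ⧸ QD → ℂ) (QuotientGroup.eq.mpr (by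
        have := Subgroup.Normal.conj_mem (H := QD) inferInstance _ (QD.inv_mem n.2) t⁻¹
        simpa [mul_assoc] using this)))
    refine ⟨⟨_, hξ⟩, ?_, ⟨m, (hmult χ ⟨_, hξ⟩ b g hb rfl).trans hm,
      CharCore.glauber_mult hι hfix S.isPGroupP hpT hbinv hm hpm⟩, fun ξ' hξ' m' hm' hpm' => ?_⟩
    · intro a c c' hcc
      let αC := CharCore.restrictAut φ C (fun a c hc => S.map_mem a hc) a
      rw [show c' = αC c from Subtype.ext hcc]
      refine indFun_comp_aut D αC (fun x => ⟨fun h => ?_, fun h => hTinv a _ h⟩) _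
        (fun h h' hh => ?_) c
      · have := hTinv a⁻¹ _ h
        change φ a⁻¹ (φ a (x : K)) ∈ T at this
        rwa [← MulAut.mul_apply, ← map_mul, inv_mul_cancel, map_one, MulAut.one_apply] at this
      · have hv : j h' = φT a (j h) := Subtype.ext (congrArg Subtype.val hh :)
        rw [Pi.mul_apply, Pi.mul_apply, show ηD h' = ηD h by
          show η (j h') = η (j h); rw [hv, hηinv]]
        congr 1
        refine congrArg (g : D ⧸ QD → ℂ) (hι ?_)
        show ((j h' : T) : T ⧸ QT) = (j h : T)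
        rw [hv]
        exact (hfix _).mp ⟨(h : D ⧸ QD), rfl⟩ a
    · obtain ⟨g', hg'', hind'⟩ := hCpart ξ' hξ'
      have hm2 := hmult χ ξ' b g' hb (by rw [hg'', hind'])
      rw [hm'] at hm2
      have hgg := CharCore.glauber_unique hι hfix S.isPGroupP hpT hbinv
        (β := g') (γ := g) ⟨m', hm2.symm, hpm'⟩ ⟨m, hm, hpm⟩
      refine Subtype.ext ?_
      show (ξ' : C → ℂ) = Cfsg.indFun D ((fun x : D => (g : D ⧸ QD → ℂ) x) * ηD)
      rw [← hgg, hg'', hind']
  · obtain ⟨g, hg, hindg⟩ := hCpart ξ hover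
    obtain ⟨b, hbinv, m, hm, hpm⟩ := CharCore.glauber_surjective hι hfix S.isPGroupP hpT g
    have hb' : Cfsg.IsIrrCharacter T (fun t : T => (b : T ⧸ QT → ℂ) t) :=
      CharCore.isIrrCharacter_comp_surjective b.2 (QuotientGroup.mk' QT)
        (QuotientGroup.mk'_surjective QT)
    obtain ⟨hχ, -, hχpart⟩ := ind_spec Q ϑ.2 T hT hQT hη hηext hb'
      (fun n t => congrArg (b : T ⧸ QT → ℂ) (QuotientGroup.eq.mpr (by
        have := Subgroup.Normal.conj_mem (H := QT) inferInstance _ (QT.inv_mem n.2) t⁻¹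
        simpa [mul_assoc] using this)))
    refine ⟨⟨_, hχ⟩, hχinv b hbinv,
      ⟨m, (hmult ⟨_, hχ⟩ ξ b g hχpart.symm (by rw [hg, hindg])).trans hm, hpm⟩,
      fun χ' hχ' hover' m' hm' hpm' => ?_⟩
    obtain ⟨b', hb'', hind'⟩ := hKpart χ' hover'
    have hb'inv : CharCore.IsInvFun ψ (b' : T ⧸ QT → ℂ) := fun a x =>
      QuotientGroup.induction_on x fun t => by
        show (fun t : T => (b' : T ⧸ QT → ℂ) t) (φT a t) = (fun t : T => (b' : T ⧸ QT → ℂ) t) t
        rw [hb'']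
        have h := avg_comp (φT a).toMonoidHom (φT a).injective QT QT
          (by ext u; exact (S.inv_iff a (u : K)).symm) (fun u _ => (φT a).surjective u)
          (fun t : T => (χ' : K → ℂ) t * conj (η t)) t
        refine h.symm.trans ?_
        show CharDeep.Ext.avg QT (fun x => (χ' : K → ℂ) (φ a (x : K)) * conj (η (φT a x))) t = _
        simp only [hηinv, hχ']
        rfl
    have hm2 := hmult χ' ξ b' g hb'' (by rw [hg, hindg])
    rw [hm'] at hm2
    have hbb := CharCore.glauber_injective hι hfix S.isPGroupP hpT hb'inv hbinv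
      ⟨m', hm2.symm, hpm'⟩ ⟨m, hm, hpm⟩
    refine Subtype.ext ?_
    show (χ' : K → ℂ) = Cfsg.indFun T ((fun t : T => (b : T ⧸ QT → ℂ) t) * η)
    rw [← hbb, hb'', hind']

/-- The correspondence. -/
theorem glauber_sylow :
    ∃ f : {χ : Cfsg.IrrCharacter K // ∀ a k, (χ : K → ℂ) (φ a k) = (χ : K → ℂ) k} →
        {ξ : Cfsg.IrrCharacter C // InvOn φ C (ξ : C → ℂ)},
      Function.Bijective f ∧ ∀ χ ξ, ∃ m : ℕ,
        Cfsg.classInner (fun c : C => (χ.1 : K → ℂ) c) ξ.1 = m ∧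
        (ξ = f χ → ((m : ℤ) ≡ 1 [ZMOD p] ∨ (m : ℤ) ≡ -1 [ZMOD p])) ∧ (ξ ≠ f χ → p ∣ m) := by
  have := S.normal
  have hp : p.Prime := Fact.out
  have hqc : ∀ (χ : Cfsg.IrrCharacter K) (ξ : Cfsg.IrrCharacter C) (θ : Cfsg.IrrCharacter Q),
      Cfsg.classInner (fun c : C => (χ : K → ℂ) c) ξ ≠ 0 →
      Cfsg.classInner (fun n : Q => (ξ : C → ℂ) ⟨n, S.le n.2⟩) θ ≠ 0 →
      Cfsg.classInner (fun n : Q => (χ : K → ℂ) n) θ ≠ 0 := fun χ ξ θ h1 h2 =>
    classInner_ne_zero_trans (Subgroup.inclusion S.le)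
      (CharCore.isCharacter_restrict (CharCore.irr_isCharacter χ) C) ξ θ h1 h2
  -- an invariant `ξ` meeting `χ` lies over every invariant constituent of `χ`
  have hsame : ∀ (χ : Cfsg.IrrCharacter K) (ξ : Cfsg.IrrCharacter C) (ϑ : Cfsg.IrrCharacter Q),
      InvOn φ C (ξ : C → ℂ) → InvOn φ Q (ϑ : Q → ℂ) →
      Cfsg.classInner (fun n : Q => (χ : K → ℂ) n) ϑ ≠ 0 →
      Cfsg.classInner (fun c : C => (χ : K → ℂ) c) ξ ≠ 0 →
      Cfsg.classInner (fun n : Q => (ξ : C → ℂ) ⟨n, S.le n.2⟩) ϑ ≠ 0 := by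
    intro χ ξ ϑ hξ hϑ h1 h2
    obtain ⟨ϑ', hϑ', h3⟩ := exists_inv_constituent S C S.le (fun a c hc => S.map_mem a hc) ξ hξ
    obtain ⟨x, hx⟩ := CharClifford.exists_conjFun_eq_of_constituents Q χ.2 ϑ'.2 ϑ.2
      (hqc χ ξ ϑ' h2 h3) h1
    let T : Subgroup K :=
      { carrier := {g | ∀ n n' : Q, (n' : K) = g * n * g⁻¹ → (ϑ : Q → ℂ) n' = (ϑ : Q → ℂ) n}
        one_mem' := fun n n' h => congrArg (ϑ : Q → ℂ) (Subtype.ext (by simpa using h))
        mul_mem' := fun {g h} hg hh n n' he => by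
          rw [hg ⟨h * n * h⁻¹, S.normal.conj_mem _ n.2 h⟩ n' (by rw [he]; group)]
          exact hh n _ rfl
        inv_mem' := fun {g} hg n n' he => (hg n' n (by rw [he]; group)).symm }
    have hQT : Q ≤ T := fun q hq n n' he => by
      rw [show n' = ⟨q, hq⟩ * n * (⟨q, hq⟩ : Q)⁻¹ from Subtype.ext he]
      exact CharCore.irr_isClassFunction ϑ n ⟨q, hq⟩
    have hTinv : ∀ a, ∀ t ∈ T, φ a t ∈ T := by
      intro a t ht n n' he
      have hn : φ a⁻¹ n ∈ Q := S.inv _ _ n.2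
      have hn' : φ a⁻¹ n' ∈ Q := S.inv _ _ n'.2
      rw [← hϑ a⁻¹ n' ⟨_, hn'⟩ rfl, ← hϑ a⁻¹ n ⟨_, hn⟩ rfl]
      refine ht _ _ ?_
      show φ a⁻¹ (n' : K) = t * φ a⁻¹ (n : K) * t⁻¹
      have e1 : φ a⁻¹ (φ a t) = t := by simp
      rw [he, map_mul, map_mul, map_inv (φ a⁻¹) (φ a t), e1]
    -- `ϑ = conjFun x ϑ'`; the coset `x T` is invariant
    have h5 : ∀ k : Q, (ϑ : Q → ℂ) k =
        (ϑ' : Q → ℂ) ⟨x * k * x⁻¹, S.normal.conj_mem _ k.2 x⟩ := fun k => congrFun hx k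
    have hcoset : ∀ a, x⁻¹ * φ a x ∈ T := by
      intro a n n' he
      have hn : φ a⁻¹ n ∈ Q := S.inv _ _ n.2
      have e1 : φ a (φ a⁻¹ (n : K)) = n := by simp
      rw [← hϑ a⁻¹ n ⟨_, hn⟩ rfl, h5 n', h5 ⟨_, hn⟩]
      refine hϑ' a ⟨x * φ a⁻¹ n * x⁻¹, S.normal.conj_mem _ hn x⟩
        ⟨x * n' * x⁻¹, S.normal.conj_mem _ n'.2 x⟩ ?_ |>.trans ?_
      · show x * (n' : K) * x⁻¹ = φ a (x * φ a⁻¹ n * x⁻¹)
        rw [map_mul, map_mul, e1, he, map_inv (φ a) x]
        group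
      · rfl
    obtain ⟨c, hcC, hcT⟩ := exists_mem_coset S T hQT hTinv x hcoset
    intro h
    apply h3
    refine Eq.trans ?_ h
    simp only [CharCore.classInner_def]
    congr 1
    refine Fintype.sum_equiv (MulAut.conjNormal c⁻¹ : MulAut Q).toEquiv _ _ fun n => ?_
    show (ξ : C → ℂ) ⟨n, _⟩ * _ = (ξ : C → ℂ) ⟨((MulAut.conjNormal c⁻¹ n : Q) : K), _⟩ *
      conj ((ϑ : Q → ℂ) (MulAut.conjNormal c⁻¹ n))
    have h6 : (ϑ : Q → ℂ) (MulAut.conjNormal c⁻¹ n) = (ϑ' : Q → ℂ) n := by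
      refine (hcT (MulAut.conjNormal c⁻¹ n) ⟨x⁻¹ * n * x, by
        simpa using S.normal.conj_mem _ n.2 x⁻¹⟩ ?_).symm.trans ((h5 _).trans ?_)
      · simp [MulAut.conjNormal_apply]; group
      · exact congrArg (ϑ' : Q → ℂ) (Subtype.ext (by simp; group))
    rw [h6, ← CharCore.irr_isClassFunction ξ ⟨n, S.le n.2⟩ ⟨c, hcC⟩⁻¹]
    congr 2
--     exact Subtype.ext (by simp [MulAut.conjNormal_apply])
  have hA : ∀ χ : {χ : Cfsg.IrrCharacter K // ∀ a k, (χ : K → ℂ) (φ a k) = (χ : K → ℂ) k},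
      ∃ ξ : {ξ : Cfsg.IrrCharacter C // InvOn φ C (ξ : C → ℂ)},
        (∃ m : ℕ, Cfsg.classInner (fun c : C => (χ.1 : K → ℂ) c) ξ.1 = m ∧
          ((m : ℤ) ≡ 1 [ZMOD p] ∨ (m : ℤ) ≡ -1 [ZMOD p])) ∧
        ∀ ξ' : {ξ : Cfsg.IrrCharacter C // InvOn φ C (ξ : C → ℂ)}, ∀ m : ℕ,
          Cfsg.classInner (fun c : C => (χ.1 : K → ℂ) c) ξ'.1 = m → ¬ p ∣ m → ξ' = ξ := by
    intro χ
    obtain ⟨ϑ, hϑ, h⟩ := exists_inv_constituent S ⊤ le_top (fun _ _ _ => trivial)
      ⟨fun k : (⊤ : Subgroup K) => (χ.1 : K → ℂ) k, CharCore.isIrrCharacter_comp_surjective χ.1.2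
        (Subgroup.topEquiv (G := K)).toMonoidHom Subgroup.topEquiv.surjective⟩
      (fun a k k' hk => by show (χ.1 : K → ℂ) k' = (χ.1 : K → ℂ) k; rw [hk, χ.2])
    obtain ⟨ξ, hξ, hm, hu⟩ := (over_spec S ϑ hϑ).1 χ.1 χ.2 h
    refine ⟨⟨ξ, hξ⟩, hm, fun ξ' m hm' hpm => Subtype.ext (hu ξ'.1 ?_ m hm' hpm)⟩
    exact hsame χ.1 ξ'.1 ϑ ξ'.2 hϑ h (by
      rw [hm', Nat.cast_ne_zero]; rintro rfl; exact hpm (dvd_zero p))
  choose f hf hu using hA
  have hndvd : ∀ m : ℕ, ((m : ℤ) ≡ 1 [ZMOD p] ∨ (m : ℤ) ≡ -1 [ZMOD p]) → ¬ p ∣ m := by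
    intro m hm hd
    have h0 : (m : ℤ) ≡ 0 [ZMOD p] := Int.modEq_zero_iff_dvd.mpr (Int.natCast_dvd_natCast.mpr hd)
    rcases hm with h | h
    · have := Int.modEq_zero_iff_dvd.mp (h.symm.trans h0)
      exact hp.one_lt.ne' (by simpa using Int.eq_one_of_dvd_one (by positivity) this)
    · have := Int.modEq_zero_iff_dvd.mp (h.symm.trans h0)
      exact hp.one_lt.ne' (by simpa using Int.eq_one_of_dvd_one (by positivity) (dvd_neg.mp this))
  have hB : ∀ ξ : {ξ : Cfsg.IrrCharacter C // InvOn φ C (ξ : C → ℂ)}, ∃ χ, f χ = ξ ∧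
      ∀ χ', f χ' = ξ → χ' = χ := by
    intro ξ
    obtain ⟨ϑ, hϑ, h⟩ := exists_inv_constituent S C S.le (fun a c hc => S.map_mem a hc) ξ.1 ξ.2
    obtain ⟨χ, hχ, ⟨m, hm, hpm⟩, huniq⟩ := (over_spec S ϑ hϑ).2 ξ.1 h
    refine ⟨⟨χ, hχ⟩, (hu ⟨χ, hχ⟩ ξ m hm hpm).symm, fun χ' hχ' => ?_⟩
    obtain ⟨m', hm', hm2⟩ := hf χ'
    rw [hχ'] at hm'
    refine Subtype.ext (huniq χ'.1 χ'.2 (hqc _ ξ.1 ϑ ?_ h) m' hm' (hndvd m' hm2))
    rw [hm', Nat.cast_ne_zero]
    rintro rfl
    exact hndvd 0 hm2 (dvd_zero p)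
  refine ⟨f, ⟨fun a b hab => ?_, fun ξ => ⟨_, (hB ξ).choose_spec.1⟩⟩, fun χ ξ => ?_⟩
  · obtain ⟨χ, -, h⟩ := hB (f a)
    rw [h a rfl, h b hab.symm]
  · obtain ⟨m, hm⟩ := CharCore.IsCharacter.exists_classInner_irr_eq_natCast
      (CharCore.isCharacter_restrict (CharCore.irr_isCharacter χ.1) C) ξ.1
    refine ⟨m, hm, fun he => ?_, fun hne => ?_⟩
    · obtain ⟨m', hm', h⟩ := hf χ
      rw [← he, hm, Nat.cast_inj] at hm'
      rwa [hm']
    · by_contra hd
      exact hne (hu χ ξ m hm hd)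

end Main

end Cfsg.Agent.Blocks88
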