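import Cfsg.Agent.Lib.CharClifford.Galois
import Cfsg.Agent.Lib.CharClifford.Central
import Cfsg.Agent.Lib.CharCore.Virtual
import Cfsg.Agent.OddChar.Twist
import Cfsg.Agent.Lib.CharInd.Imprimitive
import Mathlib.Analysis.MeanInequalities

/-!
# Galois averaging, deflation, Ito's theorem
-/

namespace Cfsg.Agent.Blocks88

/-- A nowhere zero family of algebraic integers which is stable under all endomorphisms of `ℂ`
has average absolute value at least one. -/
theorem card_le_sum_norm {ι : Type*} (S : Finset ι) (f : ι → ℂ) (hf : ∀ i ∈ S, IsIntegral ℤ (f i))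
    (hne : ∀ i ∈ S, f i ≠ 0)
    (hσ : ∀ σ : ℂ →+* ℂ, ∃ π : ι → ι, (∀ i ∈ S, π i ∈ S) ∧ Set.InjOn π S ∧
      ∀ i ∈ S, σ (f i) = f (π i)) :
    (S.card : ℝ) ≤ ∑ i ∈ S, ‖f i‖ := by
  classical
  rcases S.eq_empty_or_nonempty with rfl | hS
  · simp
  have hP : IsIntegral ℤ (∏ i ∈ S, f i) := IsIntegral.prod _ hf
  obtain ⟨k, hk⟩ := CharClifford.exists_int_of_fixed hP fun σ => by
    obtain ⟨π, hπ, hinj, he⟩ := hσ σ
    have himg : S.image π = S := Finset.eq_of_subset_of_card_le
      (Finset.image_subset_iff.mpr hπ) (Finset.card_image_of_injOn hinj).ge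
    rw [map_prod]
    conv_rhs => rw [← himg, Finset.prod_image hinj]
    exact Finset.prod_congr rfl he
  have hk0 : k ≠ 0 := by
    rintro rfl
    exact Finset.prod_ne_zero_iff.mpr hne (by simpa using hk)
  have h1 : 1 ≤ ∏ i ∈ S, ‖f i‖ := by
    rw [← norm_prod, hk, Complex.norm_intCast]
    exact_mod_cast Int.one_le_abs hk0
  have hc : (0 : ℝ) < S.card := by exact_mod_cast hS.card_pos
  have hgm := Real.geom_mean_le_arith_mean S (fun _ => (1 : ℝ)) (fun i => ‖f i‖)
    (fun _ _ => zero_le_one) (by simpa using hc) (fun i _ => norm_nonneg _)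
  simp only [Real.rpow_one, one_mul, Finset.sum_const, nsmul_eq_mul, mul_one] at hgm
  have h2 : 1 ≤ (∏ i ∈ S, ‖f i‖) ^ (S.card : ℝ)⁻¹ :=
    Real.one_le_rpow h1 (inv_nonneg.mpr hc.le)
  have h3 := (h2.trans hgm)
  rwa [one_le_div hc] at h3

/-- `σ ∘ χ` as an irreducible character. -/
noncomputable def galoisIrr {G : Type*} [Group G] [Finite G] (σ : ℂ →+* ℂ)
    (χ : Cfsg.IrrCharacter G) : Cfsg.IrrCharacter G :=
  ⟨fun g => σ ((χ : G → ℂ) g), OddChar.isIrrCharacter_map σ χ.2⟩

theorem galoisIrr_injective {G : Type*} [Group G] [Finite G] (σ : ℂ →+* ℂ) :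
    Function.Injective (galoisIrr (G := G) σ) := fun χ ψ h =>
  Subtype.ext (funext fun g => σ.injective (congrFun (congrArg Subtype.val h) g))

/-- The deflation of a character to a quotient is a character. -/
theorem exists_deflation {G : Type*} [Group G] [Fintype G] (N : Subgroup G) [N.Normal]
    {ψ : G → ℂ} (hψ : Cfsg.IsCharacter G ψ) :
    ∃ F : G ⧸ N → ℂ, Cfsg.IsCharacter (G ⧸ N) F ∧
      ∀ x : G, F (QuotientGroup.mk x) = (Nat.card N : ℂ)⁻¹ * ∑ᶠ n : N, ψ (n * x) := by
  classical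
  have := Fintype.ofFinite (G ⧸ N)
  have := Fintype.ofFinite N
  let F : G ⧸ N → ℂ := fun q =>
    (Nat.card N : ℂ)⁻¹ * ∑ g : G, if QuotientGroup.mk g = q then ψ g else 0
  have hF : ∀ x : G, F (QuotientGroup.mk x) = (Nat.card N : ℂ)⁻¹ * ∑ᶠ n : N, ψ (n * x) := by
    intro x
    simp only [F, finsum_eq_sum_of_fintype, ← Finset.sum_filter]
    congr 1
    refine (Finset.sum_bij (fun (n : N) _ => (n : G) * x) (fun n _ => ?_) (fun a _ b _ h => ?_)
      (fun g hg => ?_) (fun n _ => rfl)).symm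
    · simp only [Finset.mem_filter, Finset.mem_univ, true_and, QuotientGroup.mk_mul]
      rw [(QuotientGroup.eq_one_iff (n : G)).mpr n.2, one_mul]
    · exact Subtype.ext (mul_right_cancel h)
    · simp only [Finset.mem_filter, Finset.mem_univ, true_and] at hg
      refine ⟨⟨g * x⁻¹, ?_⟩, Finset.mem_univ _, by simp⟩
      rw [← QuotientGroup.eq_one_iff, QuotientGroup.mk_mul, hg, QuotientGroup.mk_inv, mul_inv_cancel]
  refine ⟨F, CharCore.isCharacter_iff_classInner.mpr ⟨fun q r => ?_, fun θ => ?_⟩, hF⟩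
  · obtain ⟨h, rfl⟩ := QuotientGroup.mk_surjective r
    simp only [F]
    congr 1
    rw [← Equiv.sum_comp (MulAut.conj h).toEquiv]
    refine Finset.sum_congr rfl fun g _ => ?_
    have hmk : (QuotientGroup.mk ((MulAut.conj h).toEquiv g) : G ⧸ N) =
        QuotientGroup.mk h * QuotientGroup.mk g * (QuotientGroup.mk h)⁻¹ := by
      simp [MulAut.conj_apply]
    rw [hmk]
    simp only [mul_left_inj, mul_right_inj]
    congr 1
    exact CharCore.IsCharacter.isClassFunction hψ g h
  · obtain ⟨k, hk⟩ := CharCore.IsCharacter.exists_classInner_eq_natCast hψ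
      (CharCore.isCharacter_comp (CharCore.irr_isCharacter θ) (QuotientGroup.mk' N))
    refine ⟨k, ?_⟩
    rw [← hk]
    simp only [Cfsg.classInner, F, Finset.mul_sum, Finset.sum_mul, ite_mul, zero_mul, mul_ite,
      mul_zero, Function.comp_apply, QuotientGroup.mk'_apply]
    rw [Finset.sum_comm]
    refine Finset.sum_congr rfl fun g _ => ?_
    rw [Finset.sum_ite_eq, if_pos (Finset.mem_univ _),
      Subgroup.card_eq_card_quotient_mul_card_subgroup N]
    push_cast
    ring

/-- Itô: the degree of an irreducible character divides the index of an abelian normal subgroup. -/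
theorem charDegree_dvd_index {G : Type*} [Group G] [Fintype G] (χ : Cfsg.IrrCharacter G)
    (A : Subgroup G) [A.Normal] (hA : ∀ a ∈ A, ∀ b ∈ A, a * b = b * a) :
    ∃ d : ℕ, (χ : G → ℂ) 1 = d ∧ d ∣ A.index := by
  classical
  obtain ⟨n, ρ, hρ, hχ⟩ := χ.2
  obtain ⟨T, W, hW, hAT, hirr, hsc, -, hfin, -⟩ := CharInd.exists_induced_of_abelian_normal ρ A hA
  refine ⟨Module.finrank ℂ (Fin n → ℂ), by rw [← hχ, Representation.char_one], ?_⟩
  rw [hfin, ← Subgroup.relIndex_mul_index hAT, mul_comm (A.relIndex T)]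
  refine mul_dvd_mul_left _ ?_
  set σ := CharInd.restRep ρ T W hW with hσ
  let K : Subgroup T := MonoidHom.ker σ
  let τ : Representation ℂ (T ⧸ K) W := QuotientGroup.lift K σ le_rfl
  have : τ.IsIrreducible :=
    CharClifford.irreducible_of_comp σ (QuotientGroup.mk' K) (QuotientGroup.mk'_surjective K) τ
      fun g => rfl
  have hinj : Function.Injective τ := by
    refine (injective_iff_map_eq_one τ).mpr fun a ha => ?_
    obtain ⟨g, rfl⟩ := QuotientGroup.mk'_surjective K a
    exact (QuotientGroup.eq_one_iff g).mpr ha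
  refine (CharClifford.finrank_dvd_index_center_of_injective τ hinj).trans ?_
  refine (Subgroup.index_dvd_of_le ?_).trans
    ((A.subgroupOf T).index_map_dvd (QuotientGroup.mk'_surjective K))
  rintro _ ⟨a, ha, rfl⟩
  refine Subgroup.mem_center_iff.mpr fun b => hinj ?_
  obtain ⟨t, rfl⟩ := QuotientGroup.mk'_surjective K b
  rw [map_mul, map_mul]
  show σ t * σ a = σ a * σ t
  obtain ⟨c, hc⟩ := hsc (a : G) ha
  have hca : σ a = c • (1 : Module.End ℂ W) := LinearMap.ext fun v => Subtype.ext (hc v v.2)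
  rw [hca, mul_smul_comm, smul_mul_assoc, one_mul, mul_one]

end Cfsg.Agent.Blocks88
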