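import Cfsg.Agent.Lib.BlocksCore.Local
import Cfsg.Agent.Lib.BlocksDefect.Basic
import Cfsg.Agent.Lib.CharCore.Complete
import Mathlib.GroupTheory.PGroup
import Mathlib.LinearAlgebra.Dimension.Constructions
import Mathlib.RingTheory.Ideal.Quotient.Basic

/-!
# Fixed points on the character table of a coprime action

For a `p`-group acting on a `p'`-group the sub-table on fixed characters and fixed classes is
invertible modulo `p`.
-/

namespace Cfsg.Agent.Blocks88

open BlocksCore
open scoped Classical

section Generic

variable {p : ℕ} [Fact p.Prime] {E : Type*} [Group E] [Finite E] {R : Type*} [Field R] [CharP R p]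

/-- In characteristic `p` an invariant sum reduces to the fixed points of a `p`-group. -/
theorem sum_eq_sum_fixed (hE : IsPGroup p E) {Y : Type*} [MulAction E Y] [Fintype Y] (g : Y → R)
    (hg : ∀ (e : E) y, g (e • y) = g y) :
    ∑ y, g y = ∑ y : MulAction.fixedPoints E Y, g y := by
  rw [← Finset.sum_subtype (Finset.univ.filter (· ∈ MulAction.fixedPoints E Y))
    (p := (· ∈ MulAction.fixedPoints E Y)) (by simp) g]
  rw [← Finset.sum_fiberwise_of_maps_to (g := g) (t := Finset.univ.image g)
    (fun y _ => Finset.mem_image_of_mem g (Finset.mem_univ y)),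
    ← Finset.sum_fiberwise_of_maps_to (g := g) (t := Finset.univ.image g)
      (s := Finset.univ.filter (· ∈ MulAction.fixedPoints E Y))
      (fun y _ => Finset.mem_image_of_mem g (Finset.mem_univ y))]
  refine Finset.sum_congr rfl fun v _ => ?_
  rw [Finset.sum_congr rfl (g := fun _ => v) (fun y hy => (Finset.mem_filter.mp hy).2),
    Finset.sum_congr rfl (g := fun _ => v) (fun y hy => (Finset.mem_filter.mp hy).2),
    Finset.sum_const, Finset.sum_const, nsmul_eq_mul, nsmul_eq_mul]
  congr 1
  let Yv : SubMulAction E Y := ⟨{y | g y = v}, fun e {y} hy => (hg e y).trans hy⟩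
  have h := hE.card_modEq_card_fixedPoints Yv
  rw [(CharP.natCast_eq_natCast R p)]
  have e1 : Nat.card Yv = (Finset.univ.filter fun y => g y = v).card := by
    rw [Nat.card_eq_fintype_card]
    exact Fintype.card_subtype _
  have e2 : Nat.card (MulAction.fixedPoints E Yv) =
      ((Finset.univ.filter (· ∈ MulAction.fixedPoints E Y)).filter fun y => g y = v).card := by
    rw [← Nat.card_eq_finsetCard]
    refine Nat.card_congr
      { toFun := fun u => ⟨((u : Yv) : Y), ?_⟩
        invFun := fun u => ⟨⟨u, (Finset.mem_filter.mp u.2).2⟩, fun e => Subtype.ext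
          ((Finset.mem_filter.mp (Finset.mem_filter.mp u.2).1).2 e)⟩
        left_inv := fun _ => rfl
        right_inv := fun _ => rfl }
    exact Finset.mem_filter.mpr ⟨Finset.mem_filter.mpr ⟨Finset.mem_univ _,
      fun e => congrArg (fun z : Yv => (z : Y)) (u.2 e)⟩, (u : Yv).2⟩
  rwa [e1, e2] at h

variable {X Y : Type*} [Fintype X] [Fintype Y] [MulAction E X] [MulAction E Y]
  (T : X → Y → R) (S : Y → X → R)

/-- Restricting mutually inverse equivariant matrices to fixed points. -/
theorem fixed_inverse (hE : IsPGroup p E) (hT : ∀ (e : E) x y, T (e • x) (e • y) = T x y)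
    (hS : ∀ (e : E) y x, S (e • y) (e • x) = S y x)
    (hTS : ∀ x x', ∑ y, T x y * S y x' = if x = x' then 1 else 0)
    (x x' : MulAction.fixedPoints E X) :
    ∑ y : MulAction.fixedPoints E Y, T x y * S y x' = if x = x' then 1 else 0 := by
  rw [← sum_eq_sum_fixed hE (fun y => T (x : X) y * S y (x' : X)) (fun e y => by
    conv_rhs => rw [← hT e, ← hS e y]
    rw [x.2 e, x'.2 e]), hTS]
  by_cases h : x = x'
  · rw [if_pos h, if_pos (congrArg Subtype.val h)]
  · rw [if_neg h, if_neg (fun h' => h (Subtype.ext h'))]

end Generic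

section Involution

variable {R : Type*} [Field R] {X Y : Type*} [Fintype X] [Fintype Y]

/-- Functions invariant under a map. -/
def invFuns (R : Type*) [Field R] {X : Type*} (s : X → X) : Submodule R (X → R) where
  carrier := {f | ∀ x, f (s x) = f x}
  add_mem' := fun {f g} hf hg x => by simp [hf x, hg x]
  zero_mem' := fun _ => rfl
  smul_mem' := fun c f hf x => by simp [hf x]

theorem two_mul_finrank_invFuns {s : X → X} (hs : Function.Involutive s) :
    2 * Module.finrank R (invFuns R s) =
      Fintype.card X + (Finset.univ.filter fun x => s x = x).card := by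
  let e := Fintype.equivFin X
  let Rep := {x : X // e x ≤ e (s x)}
  let φ : invFuns R s ≃ₗ[R] (Rep → R) :=
    { toFun := fun f x => (f : X → R) x.1
      map_add' := fun _ _ => rfl
      map_smul' := fun _ _ => rfl
      invFun := fun f => ⟨fun x => if h : e x ≤ e (s x) then f ⟨x, h⟩ else
          f ⟨s x, by rw [hs]; exact le_of_lt (not_le.mp h)⟩, fun x => by
        show (if h : e (s x) ≤ e (s (s x)) then _ else _) = (if h : e x ≤ e (s x) then _ else _)
        by_cases h1 : e x ≤ e (s x) <;> by_cases h2 : e (s x) ≤ e (s (s x))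
        · rw [dif_pos h1, dif_pos h2]
          have h2' := h2; rw [hs] at h2'
          exact congrArg f (Subtype.ext (e.injective (le_antisymm h2' h1)))
        · rw [dif_pos h1, dif_neg h2]
          exact congrArg f (Subtype.ext (hs x))
        · rw [dif_neg h1, dif_pos h2]
        · rw [hs] at h2
          exact ((le_total _ _).elim h1 h2).elim⟩
      left_inv := fun f => Subtype.ext (funext fun x => by
        show (if h : e x ≤ e (s x) then (f : X → R) x else (f : X → R) (s x)) = _
        split_ifs
        · rfl
        · exact f.2 x)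
      right_inv := fun f => funext fun x => dif_pos x.2 }
  rw [φ.finrank_eq, Module.finrank_fintype_fun_eq_card, Fintype.card_subtype]
  have h1 : (Finset.univ.filter fun x => e x ≤ e (s x)).card =
      (Finset.univ.filter fun x => e (s x) ≤ e x).card := by
    refine Finset.card_bij (fun x _ => s x) (fun x hx => ?_) (fun a _ b _ h => hs.injective h)
      (fun b hb => ⟨s b, ?_, hs b⟩)
    · simpa [hs x] using hx
    · simpa [hs b] using hb
  rw [two_mul]
  nth_rw 2 [h1]
  rw [← Finset.card_union_add_card_inter, ← Finset.filter_or, ← Finset.filter_and,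
    Finset.filter_true_of_mem (fun x _ => le_total _ _), Finset.card_univ]
  congr 2
  exact Finset.filter_congr fun x _ =>
    ⟨fun h => (e.injective (le_antisymm h.1 h.2)).symm, fun h => by simp [h]⟩

/-- Mutually inverse matrices commuting with involutions: the numbers of fixed points agree. -/
theorem card_fixed_involution {sX : X → X} {sY : Y → Y} (hX : Function.Involutive sX)
    (hY : Function.Involutive sY) (T : X → Y → R) (S : Y → X → R)
    (hT : ∀ x y, T (sX x) (sY y) = T x y) (hS : ∀ y x, S (sY y) (sX x) = S y x)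
    (hTS : ∀ x x', ∑ y, T x y * S y x' = if x = x' then 1 else 0)
    (hST : ∀ y y', ∑ x, S y x * T x y' = if y = y' then 1 else 0) :
    Fintype.card X = Fintype.card Y ∧
      (Finset.univ.filter fun x => sX x = x).card = (Finset.univ.filter fun y => sY y = y).card := by
  let L : (X → R) ≃ₗ[R] (Y → R) :=
    { toFun := fun f y => ∑ x, f x * T x y
      map_add' := fun f g => funext fun y => by simp [add_mul, Finset.sum_add_distrib]
      map_smul' := fun c f => funext fun y => by simp [Finset.mul_sum, mul_assoc]
      invFun := fun f x => ∑ y, f y * S y x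
      left_inv := fun f => funext fun x => by
        simp only [Finset.sum_mul]
        rw [Finset.sum_comm]
        simp only [mul_assoc, ← Finset.mul_sum, hTS]
        simp
      right_inv := fun f => funext fun y => by
        simp only [Finset.sum_mul]
        rw [Finset.sum_comm]
        simp only [mul_assoc, ← Finset.mul_sum, hST]
        simp }
  have hcard : Fintype.card X = Fintype.card Y := by
    have := L.finrank_eq
    rwa [Module.finrank_fintype_fun_eq_card, Module.finrank_fintype_fun_eq_card] at this
  have hmap : ∀ f : X → R, f ∈ invFuns R sX ↔ L f ∈ invFuns R sY := by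
    intro f
    have key : ∀ g : X → R, (fun y => L g (sY y)) = L (fun x => g (sX x)) := fun g => funext fun y => by
      show ∑ x, g x * T x (sY y) = ∑ x, g (sX x) * T x y
      rw [← Equiv.sum_comp (hX.toPerm sX) (fun x => g x * T x (sY y))]
      exact Finset.sum_congr rfl fun x _ => by simp [hT]
    constructor
    · intro hf y
      rw [congrFun (key f) y]
      exact congrFun (congrArg L (funext hf)) y
    · intro hf x
      exact congrFun (L.injective ((key f).symm.trans (funext hf))) x
  have hW : Module.finrank R (invFuns R sX) = Module.finrank R (invFuns R sY) := by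
    refine LinearEquiv.finrank_eq ((L.submoduleMap (invFuns R sX)).trans (LinearEquiv.ofEq _ _ ?_))
    ext f
    rw [Submodule.mem_map]
    exact ⟨fun ⟨g, hg, he⟩ => he ▸ (hmap g).mp hg,
      fun hf => ⟨L.symm f, (hmap _).mpr (by rwa [L.apply_symm_apply]), L.apply_symm_apply f⟩⟩
  have h1 := two_mul_finrank_invFuns (R := R) hX
  have h2 := two_mul_finrank_invFuns (R := R) hY
  rw [hW, h2, hcard] at h1
  exact ⟨hcard, (Nat.add_left_cancel h1).symm⟩

end Involution

section Coprime

variable {K : Type*} [Group K] [Fintype K] {P : Type*} [Group P] [Finite P] (α : P →* MulAut K)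

/-- The action on irreducible characters. -/
@[reducible] noncomputable def irrAction : MulAction P (IrrCharacter K) where
  smul x θ := ⟨(θ : K → ℂ) ∘ α x⁻¹,
    CharCore.isIrrCharacter_comp_surjective θ.2 (α x⁻¹).toMonoidHom (α x⁻¹).surjective⟩
  one_smul θ := Subtype.ext (funext fun k => by
    show (θ : K → ℂ) (α 1⁻¹ k) = (θ : K → ℂ) k
    rw [inv_one, map_one]; rfl)
  mul_smul x y θ := Subtype.ext (funext fun k => by
    show (θ : K → ℂ) (α (x * y)⁻¹ k) = (θ : K → ℂ) (α y⁻¹ (α x⁻¹ k))
    rw [mul_inv_rev, map_mul]; rfl)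

/-- The action on classes. -/
@[reducible] def classAction : MulAction P (ConjClasses K) where
  smul x c := ConjClasses.map (α x).toMonoidHom c
  one_smul c := by
    obtain ⟨k, rfl⟩ := ConjClasses.exists_rep c
    show ConjClasses.mk (α 1 k) = ConjClasses.mk k
    rw [map_one]; rfl
  mul_smul x y c := by
    obtain ⟨k, rfl⟩ := ConjClasses.exists_rep c
    show ConjClasses.mk (α (x * y) k) = ConjClasses.mk (α x (α y k))
    rw [map_mul]; rfl

/-- The value of a character at a class. -/
noncomputable def classVal (θ : IrrCharacter K) (c : ConjClasses K) : ℂ :=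
  (θ : K → ℂ) (Quotient.out c)

theorem classVal_mk (θ : IrrCharacter K) (k : K) :
    classVal θ (ConjClasses.mk k) = (θ : K → ℂ) k :=
  BlocksDefect.classFun_eq_of_isConj (CharCore.irr_isClassFunction θ)
    (ConjClasses.mk_eq_mk_iff_isConj.mp (Quotient.out_eq (ConjClasses.mk k)).symm)

theorem mk_out {K : Type*} [Group K] (c : ConjClasses K) : ConjClasses.mk (Quotient.out c) = c :=
  Quotient.out_eq c

/-- The size of a class. -/
noncomputable def classSize (c : ConjClasses K) : ℕ :=
  (Subgroup.centralizer ({Quotient.out c} : Set K)).index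

variable {p : ℕ} [Fact p.Prime] {M : Ideal AlgInt}

/-- The number of fixed real classes equals the number of fixed real characters. -/
theorem card_fixed_real (hP : IsPGroup p P) (hK : ¬ p ∣ Nat.card K)
    (hM : IsPModular p M) :
    Nat.card {θ : IrrCharacter K // (∀ k, (starRingEnd ℂ) ((θ : K → ℂ) k) = (θ : K → ℂ) k) ∧
        ∀ (x : P) k, (θ : K → ℂ) (α x k) = (θ : K → ℂ) k} =
      Nat.card {c : ConjClasses K // (∀ k, ConjClasses.mk k = c → IsConj k k⁻¹) ∧
        ∀ (x : P) k, ConjClasses.mk k = c → ConjClasses.mk (α x k) = c} := by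
  have := isPrime hM
  have := Fintype.ofFinite (ConjClasses K)
  let instX := irrAction α
  let instY := classAction α
  let Rf := localRing M ⧸ localIdeal M
  have : CharP Rf p := charP_residue hM
  let instF : Field Rf := Ideal.Quotient.field (localIdeal M)
  let red : localRing M →+* Rf := Ideal.Quotient.mk (localIdeal M)
  have hNK : MemLocalRing M (Nat.card K : ℂ)⁻¹ := memLocalRing_natCast_inv hM hK
  have hTloc : ∀ θ c, MemLocalRing M (classVal (K := K) θ c) := fun θ c =>
    memLocalRing_of_isIntegral (CharCore.IsCharacter.isIntegral (CharCore.irr_isCharacter θ) _)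
  have hSloc : ∀ c θ, MemLocalRing M ((Nat.card K : ℂ)⁻¹ * classSize (K := K) c *
      classVal θ (ConjClasses.mk (Quotient.out c)⁻¹)) := fun c θ =>
    (localRing M).mul_mem ((localRing M).mul_mem hNK (memLocalRing_natCast _)) (hTloc _ _)
  let T : IrrCharacter K → ConjClasses K → Rf := fun θ c => red ⟨_, hTloc θ c⟩
  let S : ConjClasses K → IrrCharacter K → Rf := fun c θ => red ⟨_, hSloc c θ⟩
  have hTS : ∀ θ θ', ∑ c, T θ c * S c θ' = if θ = θ' then 1 else 0 := by
    intro θ θ'
    simp only [T, S, ← map_mul, ← map_sum]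
    rw [← red.map_one, ← red.map_zero, ← apply_ite red]
    congr 1
    apply Subtype.ext
    rw [apply_ite (Subtype.val : localRing M → ℂ)]
    simp only [AddSubmonoidClass.coe_finsetSum, Subring.coe_mul, Subring.coe_one, Subring.coe_zero]
    have horth := CharCore.classInner_irr θ θ'
    simp only [classInner, ← CharCore.irr_apply_inv] at horth
    rw [← horth, BlocksDefect.sum_eq_sum_classes (CharCore.irr_isClassFunction θ)
      (fun a b => by rw [show (b * a * b⁻¹)⁻¹ = b * a⁻¹ * b⁻¹ by group];
                     exact CharCore.irr_isClassFunction θ' _ _), Finset.mul_sum]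
    refine Finset.sum_congr rfl fun c _ => ?_
    simp only [classVal_mk, classSize]
    simp only [classVal]
    ring
  have hST : ∀ c c', ∑ θ, S c θ * T θ c' = if c = c' then 1 else 0 := by
    intro c c'
    simp only [T, S, ← map_mul, ← map_sum]
    rw [← red.map_one, ← red.map_zero, ← apply_ite red]
    congr 1
    apply Subtype.ext
    rw [apply_ite (Subtype.val : localRing M → ℂ)]
    simp only [AddSubmonoidClass.coe_finsetSum, Subring.coe_mul, Subring.coe_one, Subring.coe_zero]
    have horth := CharCore.sum_apply_mul_conj (Quotient.out c') (Quotient.out c)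
    simp only [← CharCore.irr_apply_inv] at horth
    have hiff : IsConj (Quotient.out c') (Quotient.out c) ↔ c = c' := by
      rw [← ConjClasses.mk_eq_mk_iff_isConj, mk_out, mk_out, eq_comm]
    have key : ∑ θ : IrrCharacter K, (Nat.card K : ℂ)⁻¹ * classSize c *
        classVal θ (ConjClasses.mk (Quotient.out c)⁻¹) * classVal θ c' =
        (Nat.card K : ℂ)⁻¹ * classSize c *
          ∑ θ : IrrCharacter K, (θ : K → ℂ) (Quotient.out c') * (θ : K → ℂ) (Quotient.out c)⁻¹ := by
      rw [Finset.mul_sum]
      refine Finset.sum_congr rfl fun θ _ => ?_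
      rw [classVal_mk, classVal]; ring
    rw [key, horth]
    by_cases h : c = c'
    · rw [if_pos (hiff.mpr h), if_pos h, ← h, classSize, mul_assoc, ← Nat.cast_mul,
        Subgroup.index_mul_card, inv_mul_cancel₀ (Nat.cast_ne_zero.mpr Nat.card_pos.ne')]
    · rw [if_neg (fun h' => h (hiff.mp h')), if_neg h, mul_zero]
  have hval : ∀ (x : P) θ c, classVal (K := K) (x • θ) (x • c) = classVal θ c := by
    intro x θ c
    obtain ⟨k, rfl⟩ := ConjClasses.exists_rep c
    show classVal (x • θ) (ConjClasses.mk (α x k)) = _
    rw [classVal_mk, classVal_mk]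
    show (θ : K → ℂ) (α x⁻¹ (α x k)) = (θ : K → ℂ) k
    rw [← MulAut.mul_apply, ← map_mul, inv_mul_cancel, map_one, MulAut.one_apply]
  have hinvcl : ∀ (x : P) c, ConjClasses.mk (Quotient.out (x • c : ConjClasses K))⁻¹ =
      x • ConjClasses.mk (Quotient.out c)⁻¹ := by
    intro x c
    show _ = ConjClasses.mk (α x (Quotient.out c)⁻¹)
    rw [map_inv, ConjClasses.mk_eq_mk_iff_isConj]
    have h : IsConj (Quotient.out (x • c : ConjClasses K)) (α x (Quotient.out c)) := by
      rw [← ConjClasses.mk_eq_mk_iff_isConj]
      rw [mk_out]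
      conv_lhs => rw [← mk_out c]
      rfl
    obtain ⟨g, hg⟩ := isConj_iff.mp h
    exact isConj_iff.mpr ⟨g, by rw [← hg]; group⟩
  have hsize : ∀ (x : P) c, classSize (x • c : ConjClasses K) = classSize c := by
    intro x c
    have hcard : ∀ d : ConjClasses K, classSize d = Nat.card {k : K // ConjClasses.mk k = d} := by
      intro d
      rw [classSize, ← BlocksDefect.natCard_isConj]
      refine Nat.card_congr (Equiv.subtypeEquivRight fun k => ?_)
      rw [← ConjClasses.mk_eq_mk_iff_isConj, mk_out, eq_comm]
    rw [hcard, hcard]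
    refine (Nat.card_congr ((α x).toEquiv.subtypeEquiv fun k => ?_)).symm
    show _ ↔ ConjClasses.mk (α x k) = x • c
    rw [show ConjClasses.mk (α x k) = x • ConjClasses.mk k from rfl]
    exact (MulAction.injective x).eq_iff.symm
  have hT : ∀ (x : P) θ c, T (x • θ) (x • c) = T θ c := fun x θ c => by
    simp only [T]; congr 1; exact Subtype.ext (hval x θ c)
  have hS : ∀ (x : P) c θ, S (x • c) (x • θ) = S c θ := fun x c θ => by
    simp only [S]; congr 1; apply Subtype.ext
    dsimp only
    rw [hsize, hinvcl, hval]
  let X0 := MulAction.fixedPoints P (IrrCharacter K)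
  let Y0 := MulAction.fixedPoints P (ConjClasses K)
  have hsmulθ : ∀ (θ : X0) (x : P) k, ((θ : IrrCharacter K) : K → ℂ) (α x⁻¹ k) =
      ((θ : IrrCharacter K) : K → ℂ) k := fun θ x k =>
    congrFun (congrArg Subtype.val (θ.2 x)) k
  let sX : X0 → X0 := fun θ => ⟨⟨_, CharCore.isIrrCharacter_star θ.1.2⟩, fun x =>
    Subtype.ext (funext fun k => by
      show (starRingEnd ℂ) (((θ : IrrCharacter K) : K → ℂ) (α x⁻¹ k)) = _
      rw [hsmulθ θ x k])⟩
  let inv0 : ConjClasses K → ConjClasses K := Quotient.map (·⁻¹) fun a b h => by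
    obtain ⟨g, hg⟩ := isConj_iff.mp h
    exact isConj_iff.mpr ⟨g, by rw [← hg]; group⟩
  have hinv0 : ∀ k : K, inv0 (ConjClasses.mk k) = ConjClasses.mk k⁻¹ := fun k => rfl
  let sY : Y0 → Y0 := fun c => ⟨inv0 c, fun x => by
    obtain ⟨k, hk⟩ := ConjClasses.exists_rep (c : ConjClasses K)
    rw [← hk, hinv0]
    show ConjClasses.mk (α x k⁻¹) = _
    rw [map_inv, ← hinv0, ← hinv0 k]
    congr 1
    rw [show ConjClasses.mk (α x k) = x • ConjClasses.mk k from rfl, hk, c.2 x]⟩
  have hsX : Function.Involutive sX := fun θ => Subtype.ext (Subtype.ext (funext fun k => by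
    show (starRingEnd ℂ) ((starRingEnd ℂ) (((θ : IrrCharacter K) : K → ℂ) k)) = _
    exact Complex.conj_conj _))
  have hsY : Function.Involutive sY := fun c => Subtype.ext (by
    obtain ⟨k, hk⟩ := ConjClasses.exists_rep (c : ConjClasses K)
    show inv0 (inv0 c) = c
    rw [← hk, hinv0, hinv0, inv_inv])
  have hvalinv : ∀ (θ : X0) (c : ConjClasses K),
      classVal (sX θ : IrrCharacter K) (inv0 c) = classVal (θ : IrrCharacter K) c := by
    intro θ c
    obtain ⟨k, rfl⟩ := ConjClasses.exists_rep c
    rw [hinv0, classVal_mk, classVal_mk]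
    show (starRingEnd ℂ) (((θ : IrrCharacter K) : K → ℂ) k⁻¹) = _
    rw [CharCore.irr_apply_inv, Complex.conj_conj]
  have key := card_fixed_involution (R := Rf) hsX hsY (fun θ c => T θ c) (fun c θ => S c θ)
    (fun θ c => by simp only [T]; congr 1; exact Subtype.ext (hvalinv θ c))
    (fun c θ => by
      simp only [S]; congr 1; apply Subtype.ext; dsimp only
      have e1 : ConjClasses.mk (Quotient.out ((sY c : Y0) : ConjClasses K))⁻¹ =
          inv0 (ConjClasses.mk (Quotient.out (c : ConjClasses K))⁻¹) := by
        rw [← hinv0, hinv0 (Quotient.out (c : ConjClasses K))⁻¹, inv_inv]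
        rw [mk_out, mk_out]
        exact congrArg Subtype.val (hsY c)
      have e2 : classSize ((sY c : Y0) : ConjClasses K) = classSize (c : ConjClasses K) := by
        simp only [classSize]
        have h : IsConj (Quotient.out ((sY c : Y0) : ConjClasses K)) (Quotient.out (c : ConjClasses K))⁻¹ := by
          rw [← ConjClasses.mk_eq_mk_iff_isConj, ← hinv0, mk_out, mk_out]
        rw [← BlocksDefect.natCard_isConj, ← BlocksDefect.natCard_isConj]
        refine Nat.card_congr ((Equiv.inv K).subtypeEquiv fun a => ?_)
        constructor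
        · intro ha
          obtain ⟨g, hg⟩ := isConj_iff.mp (h.symm.trans ha)
          exact isConj_iff.mpr ⟨g, by rw [Equiv.inv_apply, ← hg]; group⟩
        · intro ha
          obtain ⟨g, hg⟩ := isConj_iff.mp ha
          exact h.trans (isConj_iff.mpr ⟨g, by rw [Equiv.inv_apply] at hg; rw [← inv_inv a, ← hg]; group⟩)
      rw [e1, hvalinv, e2])
    (fun θ θ' => (fixed_inverse T S hP hT hS (fun a b => by convert hTS a b) θ θ').trans (by congr))
    (fun c c' => (fixed_inverse S T hP hS hT (fun a b => by convert hST a b) c c').trans (by congr))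
  have hfX : Nat.card {θ : IrrCharacter K // (∀ k, (starRingEnd ℂ) ((θ : K → ℂ) k) = (θ : K → ℂ) k) ∧
      ∀ (x : P) k, (θ : K → ℂ) (α x k) = (θ : K → ℂ) k} =
      (Finset.univ.filter fun θ => sX θ = θ).card := by
    rw [← Nat.card_eq_finsetCard]
    refine Nat.card_congr
      { toFun := fun θ => ⟨⟨θ.1, fun x => Subtype.ext (funext fun k => θ.2.2 x⁻¹ k)⟩,
          Finset.mem_filter.mpr ⟨Finset.mem_univ _, Subtype.ext (Subtype.ext (funext θ.2.1))⟩⟩
        invFun := fun θ => ⟨θ.1.1, fun k =>
            congrFun (congrArg (fun z : X0 => ((z : IrrCharacter K) : K → ℂ)) (Finset.mem_filter.mp θ.2).2) k,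
          fun x k => by
            conv_rhs => rw [← hsmulθ θ.1 x⁻¹ k, inv_inv]⟩
        left_inv := fun _ => rfl
        right_inv := fun _ => rfl }
  have hfY : Nat.card {c : ConjClasses K // (∀ k, ConjClasses.mk k = c → IsConj k k⁻¹) ∧
      ∀ (x : P) k, ConjClasses.mk k = c → ConjClasses.mk (α x k) = c} =
      (Finset.univ.filter fun c => sY c = c).card := by
    rw [← Nat.card_eq_finsetCard]
    refine Nat.card_congr
      { toFun := fun c => ⟨⟨c.1, fun x => by
            obtain ⟨k, hk⟩ := ConjClasses.exists_rep c.1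
            exact (congrArg (x • ·) hk.symm).trans (c.2.2 x k hk)⟩,
          Finset.mem_filter.mpr ⟨Finset.mem_univ _, Subtype.ext (by
            obtain ⟨k, hk⟩ := ConjClasses.exists_rep c.1
            show inv0 c.1 = c.1
            rw [← hk, hinv0]
            exact (ConjClasses.mk_eq_mk_iff_isConj.mpr (c.2.1 k hk)).symm)⟩⟩
        invFun := fun c => ⟨c.1.1, fun k hk => ConjClasses.mk_eq_mk_iff_isConj.mp (by
            have h : inv0 c.1.1 = c.1.1 := congrArg Subtype.val (Finset.mem_filter.mp c.2).2
            rw [← hk, hinv0] at h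
            exact h.symm),
          fun x k hk => by
            have h := c.1.2 x
            rw [← hk] at h ⊢
            exact h⟩
        left_inv := fun _ => rfl
        right_inv := fun _ => rfl }
  rw [hfX, hfY]
  convert key.2

end Coprime

end Cfsg.Agent.Blocks88
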