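import Cfsg.Agent.CharDeep.Ext.Inertia
import Cfsg.Agent.CharDeep.Ext.Main

/-!
# Characters over an extendible character

For `H` normal in `G`, `ϑ` irreducible on `H` with inertia group `T` and an extension `η` to `T`,
the map `χ ↦ avg (χ|T · conj η)` is the inverse of `β ↦ Ind_T (β η)`.
-/

namespace Cfsg.Agent.Blocks88

open scoped ComplexConjugate
open CharDeep.Ext (avg)

attribute [local instance] Fintype.ofFinite

section AvgComp

variable {G : Type*} [Group G] [Finite G] {G' : Type*} [Group G'] [Finite G']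

theorem avg_comp (j : G' →* G) (hj : Function.Injective j) (N : Subgroup G) (N' : Subgroup G')
    (hN' : N' = N.comap j) (hle : N ≤ j.range) (f : G → ℂ) (g : G') :
    avg N' (fun x => f (j x)) g = avg N f (j g) := by
  classical
  let _ := Fintype.ofFinite N
  let _ := Fintype.ofFinite N'
  subst hN'
  have hbij : Function.Bijective (fun n : N.comap j => (⟨j n, n.2⟩ : N)) :=
    ⟨fun a b h => Subtype.ext (hj (congrArg Subtype.val h)), fun n => by
      obtain ⟨x, hx⟩ := hle n.2
      exact ⟨⟨x, show j x ∈ N by rw [hx]; exact n.2⟩, Subtype.ext hx⟩⟩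
  rw [CharDeep.Ext.avg_apply, CharDeep.Ext.avg_apply, Nat.card_eq_of_bijective _ hbij]
  congr 1
  exact Fintype.sum_equiv (Equiv.ofBijective _ hbij) _ _ fun n => by simp [map_mul]

end AvgComp

theorem classInner_comp_mk {G : Type*} [Group G] [Fintype G] (N : Subgroup G) [N.Normal]
    [Fintype (G ⧸ N)] (f g : G ⧸ N → ℂ) :
    Cfsg.classInner (fun x => f (QuotientGroup.mk x)) (fun x => g (QuotientGroup.mk x)) =
      Cfsg.classInner f g := by
  classical
  simp only [CharCore.classInner_def]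
  rw [← Finset.sum_fiberwise Finset.univ (QuotientGroup.mk : G → G ⧸ N)]
  have hfib : ∀ q : G ⧸ N, ∑ x ∈ Finset.univ.filter (fun x : G => (x : G ⧸ N) = q),
      f (x : G ⧸ N) * conj (g (x : G ⧸ N)) = (Nat.card N : ℂ) * (f q * conj (g q)) := by
    intro q
    rw [Finset.sum_congr rfl (g := fun _ => f q * conj (g q))
      (fun x hx => by rw [(Finset.mem_filter.mp hx).2]), Finset.sum_const, nsmul_eq_mul]
    obtain ⟨a, rfl⟩ := QuotientGroup.mk_surjective q
    congr 2
    rw [← Nat.card_eq_finsetCard]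
    refine Nat.card_congr
      { toFun := fun x => ⟨a⁻¹ * x, QuotientGroup.eq.mp (Finset.mem_filter.mp x.2).2.symm⟩
        invFun := fun n => ⟨a * n, Finset.mem_filter.mpr ⟨Finset.mem_univ _,
          (QuotientGroup.eq.mpr (by simp)).symm⟩⟩
        left_inv := fun x => Subtype.ext (by simp)
        right_inv := fun n => Subtype.ext (by simp) }
  rw [Finset.sum_congr rfl fun q _ => hfib q, ← Finset.mul_sum, ← mul_assoc]
  congr 1
  have hN : (Nat.card N : ℂ) ≠ 0 := Nat.cast_ne_zero.mpr Nat.card_pos.ne'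
  rw [Subgroup.card_eq_card_quotient_mul_card_subgroup N, Nat.cast_mul, mul_inv,
    mul_assoc, inv_mul_cancel₀ hN, mul_one]

/-- The `β`-part of a character. -/
noncomputable def part {G : Type*} [Group G] [Finite G] (H T : Subgroup G) (η : T → ℂ) (χ : G → ℂ) :
    T → ℂ :=
  avg (H.subgroupOf T) (fun t => χ t * conj (η t))

section Over

variable {G : Type*} [Group G] [Fintype G] (H : Subgroup G) [hN : H.Normal] [Fintype H]
  {ϑ : H → ℂ} (hϑ : Cfsg.IsIrrCharacter H ϑ) (T : Subgroup G) [Fintype T]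
  (hT : ∀ g : G, g ∈ T ↔ ∀ n : H, ϑ ⟨g * n * g⁻¹, hN.conj_mem (n : G) n.2 g⟩ = ϑ n) (hHT : H ≤ T)
  {η : T → ℂ} (hη : Cfsg.IsIrrCharacter T η) (hext : ∀ n : H, η ⟨n, hHT n.2⟩ = ϑ n)

omit [Fintype G] [Fintype H] [Fintype T] in
theorem part_mul_left [Finite G] (χ : G → ℂ) (n : H.subgroupOf T) (t : T) :
    part H T η χ ((n : T) * t) = part H T η χ t :=
  CharDeep.Ext.avg_mul_left _ _ n t

omit [Fintype H] in
theorem classInner_part (χ : G → ℂ) {β : T → ℂ}
    (hinv : ∀ (n : H.subgroupOf T) t, β ((n : T) * t) = β t) :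
    Cfsg.classInner (part H T η χ) β = Cfsg.classInner (fun t : T => χ t) (β * η) := by
  rw [part, CharDeep.Ext.classInner_avg _ hinv]
  simp only [CharCore.classInner_def, Pi.mul_apply, map_mul]
  congr 1
  exact Finset.sum_congr rfl fun t _ => by ring

include hN in
omit [Fintype G] [Fintype H] in
theorem isCharacter_part [Finite G] {χ : G → ℂ} (hχ : Cfsg.IsCharacter G χ)
    (hη : Cfsg.IsIrrCharacter T η) : Cfsg.IsCharacter T (part H T η χ) :=
  CharDeep.Ext.isCharacter_avg _ (CharCore.isCharacter_mul (CharCore.isCharacter_restrict hχ T)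
    (CharCore.IsCharacter.star (CharCore.IsIrrCharacter.isCharacter hη)))

include hN hext hϑ

theorem irr_restrict : Cfsg.IsIrrCharacter (H.subgroupOf T) (fun n => η (n : T)) := by
  rw [show (fun n : H.subgroupOf T => η (n : T)) =
    fun n => ϑ (Subgroup.subgroupOfEquivOfLe hHT n) from funext fun n => hext ⟨_, n.2⟩]
  exact CharCore.isIrrCharacter_comp_surjective hϑ (Subgroup.subgroupOfEquivOfLe hHT).toMonoidHom
    (Subgroup.subgroupOfEquivOfLe hHT).surjective

theorem classInner_res (f : T → ℂ) :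
    Cfsg.classInner (fun n : H.subgroupOf T => f n) (fun n => η (n : T)) =
      Cfsg.classInner (fun n : H => f ⟨n, hHT n.2⟩) ϑ := by
  simp only [CharCore.classInner_def]
  rw [Nat.card_congr (Subgroup.subgroupOfEquivOfLe hHT).toEquiv]
  congr 1
  refine Fintype.sum_equiv (Subgroup.subgroupOfEquivOfLe hHT).toEquiv _ _ fun n => ?_
  show f (n : T) * conj (η (n : T)) = _
  rw [show η (n : T) = ϑ ⟨((n : T) : G), n.2⟩ from hext ⟨_, n.2⟩]
  rfl

include hT hη

/-- Any irreducible character over `ϑ` is induced from `part χ · η`. -/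
theorem part_spec {χ : G → ℂ} (hχ : Cfsg.IsIrrCharacter G χ)
    (hcon : Cfsg.classInner (fun n : H => χ n) ϑ ≠ 0) :
    Cfsg.IsIrrCharacter T (part H T η χ) ∧ Cfsg.indFun T (part H T η χ * η) = χ ∧
      ∀ ψ' : Cfsg.IrrCharacter T, Cfsg.classInner (fun t : T => χ t) ψ' ≠ 0 →
        Cfsg.classInner (fun n : H => (ψ' : T → ℂ) ⟨n, hHT n.2⟩) ϑ ≠ 0 →
          (ψ' : T → ℂ) = part H T η χ * η := by
  have := Classical.decEq (Cfsg.IrrCharacter T)
  have hHn : (H.subgroupOf T).Normal := Subgroup.normal_subgroupOf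
  obtain ⟨ψ, hψ, hind, hmult⟩ := CharDeep.Ext.exists_inertia_induced H hϑ T hT hHT hχ hcon
  have hηN := irr_restrict H hϑ T hHT hext
  have hne : Cfsg.classInner (fun n : H.subgroupOf T => ψ n) (fun n => η (n : T)) ≠ 0 := by
    rw [classInner_res H hϑ T hHT hext ψ, hmult]; exact hcon
  obtain ⟨β, hβ, hβinv, hψeq, hβavg⟩ := CharDeep.Ext.exists_gallagher hη hηN hψ hne
  obtain ⟨a, ha⟩ := CharCore.IsCharacter.exists_sum
    (CharCore.isCharacter_restrict (CharCore.IsIrrCharacter.isCharacter hχ) T)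
  choose c hc using fun ψ' : Cfsg.IrrCharacter T =>
    CharCore.IsCharacter.exists_classInner_eq_natCast
      (CharCore.isCharacter_comp (CharCore.irr_isCharacter ψ') (Subgroup.inclusion hHT))
      (CharCore.IsIrrCharacter.isCharacter hϑ)
  have haψ : a ⟨ψ, hψ⟩ = 1 := by
    have h := CharInd.classInner_indFun_right T ψ
      (CharCore.IsCharacter.isClassFunction (CharCore.IsIrrCharacter.isCharacter hχ))
    rw [hind, (CharCore.isIrrCharacter_iff.mp hχ).2, ha] at h
    exact Nat.cast_injective (R := ℂ) (by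
      rw [Nat.cast_one, h]
      exact (CharCore.classInner_sum_all (fun i => (a i : ℂ)) ⟨ψ, hψ⟩).symm)
  have hsum : ∑ ψ', a ψ' * c ψ' = c ⟨ψ, hψ⟩ := by
    apply Nat.cast_injective (R := ℂ)
    push_cast
    rw [← hc ⟨ψ, hψ⟩]
    refine Eq.trans ?_ hmult.symm
    rw [show (fun n : H => χ n) = ∑ i, (a i : ℂ) • fun n : H => (i : T → ℂ) ⟨n, hHT n.2⟩ from
      funext fun n => (congrFun ha ⟨n, hHT n.2⟩).trans (by simp [Finset.sum_apply]),
      CharCore.classInner_sum_left]
    exact Finset.sum_congr rfl fun i _ => by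
      rw [CharCore.classInner_smul_left, ← hc i]; rfl
  have hzero : ∀ ψ', ψ' ≠ ⟨ψ, hψ⟩ → a ψ' = 0 ∨ c ψ' = 0 := by
    intro ψ' hne'
    rw [← Finset.add_sum_erase _ _ (Finset.mem_univ ⟨ψ, hψ⟩), haψ, one_mul] at hsum
    have h0 : ∑ i ∈ Finset.univ.erase ⟨ψ, hψ⟩, a i * c i = 0 := Nat.add_eq_left.mp hsum
    exact mul_eq_zero.mp (Finset.sum_eq_zero_iff.mp h0 ψ'
      (Finset.mem_erase.mpr ⟨hne', Finset.mem_univ _⟩))
  have hpart : part H T η χ = β := by
    have hcomb : (fun t : T => χ t * conj (η t)) =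
        ∑ i, (a i : ℂ) • fun t : T => (i : T → ℂ) t * conj (η t) := funext fun t => by
      rw [congrFun ha t]
      simp [Finset.sum_apply, Finset.sum_mul, mul_assoc]
    rw [part, hcomb, CharDeep.Ext.avg_sum, Finset.sum_eq_single ⟨ψ, hψ⟩]
    · rw [CharDeep.Ext.avg_smul, haψ, Nat.cast_one, one_smul, hβavg]
    · intro i _ hi
      rw [CharDeep.Ext.avg_smul]
      rcases hzero i hi with h | h
      · rw [h, Nat.cast_zero, zero_smul]
      · rw [CharDeep.Ext.avg_mul_conj_eq_zero hη i.2, smul_zero]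
        rw [classInner_res H hϑ T hHT hext]
        exact (hc i).trans (by rw [h, Nat.cast_zero])
    · intro h; exact absurd (Finset.mem_univ _) h
  refine ⟨hpart ▸ hβ, by rw [hpart, ← hψeq, hind], fun ψ' h1 h2 => ?_⟩
  rw [hpart, ← hψeq]
  by_contra h
  rcases hzero ψ' (fun h' => h (congrArg Subtype.val h')) with h' | h'
  · exact h1 (by rw [ha, CharCore.classInner_sum_all, h', Nat.cast_zero])
  · exact h2 ((hc ψ').trans (by rw [h', Nat.cast_zero]))

/-- Conversely `Ind (β η)` is irreducible over `ϑ` with part `β`. -/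
theorem ind_spec {β : T → ℂ} (hβ : Cfsg.IsIrrCharacter T β)
    (hinv : ∀ (n : H.subgroupOf T) t, β ((n : T) * t) = β t) :
    Cfsg.IsIrrCharacter G (Cfsg.indFun T (β * η)) ∧
      Cfsg.classInner (fun n : H => Cfsg.indFun T (β * η) n) ϑ ≠ 0 ∧
      part H T η (Cfsg.indFun T (β * η)) = β := by
  have := Classical.decEq (Cfsg.IrrCharacter T)
  have hHn : (H.subgroupOf T).Normal := Subgroup.normal_subgroupOf
  have hηN := irr_restrict H hϑ T hHT hext
  have hψ := CharDeep.Ext.isIrrCharacter_mul hη hηN hβ hinv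
  have hψH : Cfsg.classInner (fun n : H => (β * η) ⟨n, hHT n.2⟩) ϑ = β 1 := by
    have h : (fun n : H => (β * η) ⟨n, hHT n.2⟩) = β 1 • ϑ := funext fun n => by
      rw [Pi.mul_apply, hext n, Pi.smul_apply, smul_eq_mul]
      congr 1
      simpa using hinv ⟨⟨n, hHT n.2⟩, n.2⟩ 1
    rw [h, CharCore.classInner_smul_left, (CharCore.isIrrCharacter_iff.mp hϑ).2, mul_one]
  have hψH0 : Cfsg.classInner (fun n : H => (β * η) ⟨n, hHT n.2⟩) ϑ ≠ 0 := by
    rw [hψH]; exact CharCore.irr_apply_one_ne_zero ⟨β, hβ⟩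
  obtain ⟨χ, hχne⟩ : ∃ χ : Cfsg.IrrCharacter G,
      Cfsg.classInner (Cfsg.indFun T (β * η)) χ ≠ 0 := by
    by_contra hcon
    push Not at hcon
    have h0 := CharCore.IsCharacter.eq_sum_classInner
      (CharInd.isCharacter_indFun T (CharCore.IsIrrCharacter.isCharacter hψ))
    have h1 := congrFun h0 1
    simp only [hcon, zero_smul, Finset.sum_const_zero, Pi.zero_apply] at h1
    rw [CharInd.indFun_apply_one] at h1
    exact mul_ne_zero (Nat.cast_ne_zero.mpr Subgroup.index_ne_zero_of_finite)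
      (CharCore.irr_apply_one_ne_zero ⟨_, hψ⟩) h1
  have hres : Cfsg.classInner (fun t : T => (χ : G → ℂ) t) (β * η) ≠ 0 := by
    rw [← CharInd.classInner_indFun_right T (β * η) (CharCore.irr_isClassFunction χ)]
    intro h
    exact hχne (by rw [← CharCore.conj_classInner, h, map_zero])
  obtain ⟨a, ha⟩ := CharCore.IsCharacter.exists_sum
    (CharCore.isCharacter_restrict (CharCore.irr_isCharacter χ) T)
  choose c hc using fun ψ' : Cfsg.IrrCharacter T =>
    CharCore.IsCharacter.exists_classInner_eq_natCast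
      (CharCore.isCharacter_comp (CharCore.irr_isCharacter ψ') (Subgroup.inclusion hHT))
      (CharCore.IsIrrCharacter.isCharacter hϑ)
  have hover : Cfsg.classInner (fun n : H => (χ : G → ℂ) n) ϑ ≠ 0 := by
    have h1 : Cfsg.classInner (fun n : H => (χ : G → ℂ) n) ϑ =
        ((∑ i, a i * c i : ℕ) : ℂ) := by
      rw [show (fun n : H => (χ : G → ℂ) n) =
          ∑ i, (a i : ℂ) • fun n : H => (i : T → ℂ) ⟨n, hHT n.2⟩ from
        funext fun n => (congrFun ha ⟨n, hHT n.2⟩).trans (by simp [Finset.sum_apply]),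
        CharCore.classInner_sum_left]
      push_cast
      exact Finset.sum_congr rfl fun i _ => by
        rw [CharCore.classInner_smul_left, ← hc i]; rfl
    rw [h1, Nat.cast_ne_zero]
    intro h0
    rcases mul_eq_zero.mp (Finset.sum_eq_zero_iff.mp h0 ⟨_, hψ⟩ (Finset.mem_univ _)) with h | h
    · apply hres
      rw [ha]
      exact (CharCore.classInner_sum_all (fun i => (a i : ℂ)) ⟨_, hψ⟩).trans (by simp [h])
    · exact hψH0 ((hc ⟨_, hψ⟩).trans (by rw [h, Nat.cast_zero]))
  obtain ⟨-, hind, huniq⟩ := part_spec H hϑ T hT hHT hη hext χ.2 hover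
  have hk : β * η = part H T η (χ : G → ℂ) * η := huniq ⟨_, hψ⟩ hres hψH0
  have hindeq : Cfsg.indFun T (β * η) = (χ : G → ℂ) := by rw [hk, hind]
  refine ⟨hindeq ▸ χ.2, hindeq ▸ hover, ?_⟩
  rw [hindeq]
  have e1 : ∀ b : T → ℂ, (∀ (n : H.subgroupOf T) t, b ((n : T) * t) = b t) →
      avg (H.subgroupOf T) (fun t => (b * η) t * conj (η t)) = b := by
    intro b hb
    funext t
    have h := congrFun (CharDeep.Ext.avg_mul_conj_self hη hηN) t
    rw [CharDeep.Ext.avg_apply, Pi.one_apply] at h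
    rw [CharDeep.Ext.avg_apply]
    simp only [Pi.mul_apply, hb, mul_assoc, ← Finset.mul_sum]
    rw [mul_left_comm, h, mul_one]
  rw [← e1 β hinv, hk, e1 _ (part_mul_left H T _)]

end Over

end Cfsg.Agent.Blocks88
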