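import Cfsg.Agent.Blocks88.Basic
import Cfsg.Agent.Lib.CharCore.Complete
import Cfsg.Agent.Lib.CharCore.Linear
import Mathlib.GroupTheory.QuotientGroup.Basic
import Mathlib.GroupTheory.Index

/-!
# Weighted norms of integral vectors on abelian groups

If `B` is a finite abelian group of order `c` and the weight is `1` at the identity and `c + 1`
elsewhere, the weighted norm of a function with integral Fourier coefficients is at least `c²`;
this is stable under products.
-/

namespace Cfsg.Agent.Blocks88.AbWeight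

open scoped ComplexConjugate

attribute [local instance] Fintype.ofFinite

universe u

section Comm

variable {A : Type*} [CommGroup A] [Finite A]

omit [Finite A] in
theorem isClassFunction_comm (f : A → ℂ) : Cfsg.IsClassFunction A f := fun a b => by
  rw [mul_comm b a, mul_assoc, mul_inv_cancel, mul_one]

theorem irr_apply_one (μ : Cfsg.IrrCharacter A) : (μ : A → ℂ) 1 = 1 := by
  obtain ⟨d, hd, hdvd⟩ := charDegree_dvd_index μ ⊤ (fun a _ b _ => mul_comm a b)
  rw [Subgroup.index_top, Nat.dvd_one] at hdvd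
  rw [hd, hdvd, Nat.cast_one]

theorem exists_hom (μ : Cfsg.IrrCharacter A) :
    ∃ l : A →* ℂˣ, (μ : A → ℂ) = fun a => (l a : ℂ) :=
  CharCore.IsCharacter.exists_hom_of_degree_one (CharCore.irr_isCharacter μ) (irr_apply_one μ)

theorem natCard_irr : Nat.card (Cfsg.IrrCharacter A) = Nat.card A := by
  rw [CharCore.card_irr]
  refine (Nat.card_eq_of_bijective ConjClasses.mk ⟨fun a b h => ?_, ConjClasses.mk_surjective⟩).symm
  obtain ⟨c, hc⟩ := isConj_iff.mp (ConjClasses.mk_eq_mk_iff_isConj.mp h)
  rwa [mul_comm c, mul_assoc, mul_inv_cancel, mul_one] at hc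

theorem apply_one (f : A → ℂ) : f 1 = ∑ μ : Cfsg.IrrCharacter A, Cfsg.classInner f μ := by
  conv_lhs => rw [CharCore.eq_sum_classInner (isClassFunction_comm f)]
  rw [Finset.sum_apply]
  exact Finset.sum_congr rfl fun μ _ => by rw [Pi.smul_apply, irr_apply_one, smul_eq_mul, mul_one]

theorem parseval (f : A → ℂ) :
    ∑ a, ‖f a‖ ^ 2 = (Nat.card A : ℝ) * ∑ μ : Cfsg.IrrCharacter A, ‖Cfsg.classInner f μ‖ ^ 2 := by
  have h := CharCore.classInner_eq_sum (isClassFunction_comm f) (isClassFunction_comm f)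
  rw [CharCore.classInner_def, inv_mul_eq_iff_eq_mul₀ (Nat.cast_ne_zero.mpr Nat.card_pos.ne')] at h
  simp only [Complex.mul_conj'] at h
  exact_mod_cast h

theorem eq_zero_of_coef {f : A → ℂ} (h : ∀ μ : Cfsg.IrrCharacter A, Cfsg.classInner f μ = 0) :
    f = 0 := CharCore.eq_zero_of_classInner_irr_eq_zero (isClassFunction_comm f) h

end Comm

variable {S : Type} [Fintype S]

/-- A family of vectors closed under differences whose nonzero members are long. -/
structure Ample (L : (S → ℂ) → Prop) : Prop where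
  zero : L 0
  sub : ∀ x y, L x → L y → L (x - y)
  bound : ∀ x, L x → x ≠ 0 → (Fintype.card S : ℝ) ≤ ∑ s, ‖x s‖ ^ 2

/-- The weighted norm. -/
noncomputable def wnorm {A : Type*} [Finite A] (W : A → ℝ) (f : A → S → ℂ) : ℝ :=
  ∑ a, W a * ∑ s, ‖f a s‖ ^ 2

/-- Every nonzero function with coefficients in `L` is long for the weight `W`. -/
def Good (L : (S → ℂ) → Prop) (A : Type*) [CommGroup A] [Finite A] (W : A → ℝ) : Prop :=
  ∀ f : A → S → ℂ, (∀ μ : Cfsg.IrrCharacter A, L fun s => Cfsg.classInner (fun a => f a s) μ) →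
    f ≠ 0 → (Fintype.card S : ℝ) * (Nat.card A : ℝ) ^ 2 ≤ wnorm W f

theorem wnorm_nonneg {A : Type*} [Finite A] {W : A → ℝ} (hW : ∀ a, 0 ≤ W a) (f : A → S → ℂ) :
    0 ≤ wnorm W f :=
  Finset.sum_nonneg fun a _ => mul_nonneg (hW a) (Finset.sum_nonneg fun s _ => sq_nonneg _)

/-- The trivial group. -/
theorem good_punit {L : (S → ℂ) → Prop} (hL : Ample L) :
    Good L PUnit.{u+1} (fun _ => (1 : ℝ)) := by
  intro f hf hne
  have h1 : ∀ s, f PUnit.unit s =
      Cfsg.classInner (fun a => f a s) (⟨1, CharCore.isIrrCharacter_one⟩ : Cfsg.IrrCharacter PUnit.{u+1}) := by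
    intro s
    rw [CharCore.classInner_def]
    simp
  have hmem : L (f PUnit.unit) := by
    have h := hf ⟨1, CharCore.isIrrCharacter_one⟩
    rw [show f PUnit.unit = _ from funext h1]
    convert h
  have hne' : f PUnit.unit ≠ 0 := fun h => hne (funext fun a => by cases a; exact h)
  have := hL.bound _ hmem hne'
  simpa [wnorm] using this

/-- The symmetrised identity. -/
theorem sum_sum_norm_sub {ι : Type*} [Fintype ι] (x : ι → ℂ) :
    ∑ i, ∑ j, ‖x i - x j‖ ^ 2 =
      2 * (Fintype.card ι : ℝ) * ∑ i, ‖x i‖ ^ 2 - 2 * ‖∑ i, x i‖ ^ 2 := by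
  apply Complex.ofReal_injective
  push_cast
  have h1 : ∀ i j, (x i - x j) * conj (x i - x j) =
      x i * conj (x i) + x j * conj (x j) - (x i * conj (x j) + x j * conj (x i)) := fun i j => by
    rw [map_sub]; ring
  have h2 : ∑ i, ∑ j, x i * conj (x j) = (∑ i, x i) * conj (∑ i, x i) := by
    rw [map_sum, Finset.sum_mul_sum]
  have h3 : ∑ i, ∑ j, x j * conj (x i) = (∑ i, x i) * conj (∑ i, x i) := by
    rw [Finset.sum_comm, h2]
  simp only [← Complex.mul_conj', h1, Finset.sum_sub_distrib, Finset.sum_add_distrib]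
  rw [h2, h3]
  simp only [Finset.sum_const, Finset.card_univ, nsmul_eq_mul, ← Finset.mul_sum]
  ring

theorem sum_prod' {A B M : Type*} [Finite A] [Finite B] [AddCommMonoid M] (F : A × B → M) :
    Finset.sum (@Finset.univ (A × B) (Fintype.ofFinite (A × B))) F =
      ∑ a : A, ∑ b : B, F (a, b) :=
  (Finset.sum_congr (by ext; simp) fun _ _ => rfl).trans (Fintype.sum_prod_type F)

/-- Adjoining a factor. -/
theorem good_prod {L : (S → ℂ) → Prop} (hL : Ample L) {A B : Type*} [CommGroup A] [Finite A]
    [CommGroup B] [Finite B] [DecidableEq B] {W : A → ℝ} (hW : ∀ a, 0 ≤ W a) (hA : Good L A W) :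
    Good L (A × B) (fun x => W x.1 * (if x.2 = 1 then 1 else (Nat.card B : ℝ) + 1)) := by
  classical
  intro f hf hne
  set c : ℝ := (Nat.card B : ℝ) with hc
  have hc0 : 0 < c := by rw [hc]; exact_mod_cast Nat.card_pos
  set g : Cfsg.IrrCharacter B → A → S → ℂ :=
    fun ν a s => Cfsg.classInner (fun b => f (a, b) s) ν with hg
  have hcoef : ∀ ν (μ : Cfsg.IrrCharacter A), L fun s => Cfsg.classInner (fun a => g ν a s) μ := by
    intro ν μ
    obtain ⟨l, hl⟩ := exists_hom μ
    obtain ⟨m, hm⟩ := exists_hom ν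
    let κ : A × B →* ℂˣ := (l.comp (MonoidHom.fst A B)) * (m.comp (MonoidHom.snd A B))
    have h := hf ⟨_, CharCore.isIrrCharacter_hom κ⟩
    convert h using 1
    funext s
    simp only [hg, CharCore.classInner_def, hl, hm, κ, sum_prod', Nat.card_prod,
      Nat.cast_mul, mul_inv, MonoidHom.mul_apply, MonoidHom.comp_apply, MonoidHom.coe_fst,
      MonoidHom.coe_snd, Units.val_mul, map_mul, Finset.mul_sum, Finset.sum_mul]
    exact Finset.sum_congr rfl fun a _ => Finset.sum_congr rfl fun b _ => by ring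
  have hcoef' : ∀ ν ν' (μ : Cfsg.IrrCharacter A),
      L fun s => Cfsg.classInner (fun a => (g ν - g ν') a s) μ := by
    intro ν ν' μ
    have h := hL.sub _ _ (hcoef ν μ) (hcoef ν' μ)
    convert h using 1
    funext s
    exact CharCore.classInner_sub_left _ _ _
  have hcardB : (Fintype.card (Cfsg.IrrCharacter B) : ℝ) = c := by
    rw [Fintype.card_eq_nat_card, natCard_irr]
  -- the form in one factor
  have hform : ∀ (a : A) (s : S),
      ∑ b, (if b = 1 then (1 : ℝ) else c + 1) * ‖f (a, b) s‖ ^ 2 =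
        c * ∑ ν, ‖g ν a s‖ ^ 2 + c / 2 * ∑ ν, ∑ ν', ‖(g ν - g ν') a s‖ ^ 2 := by
    intro a s
    have h1 : ∀ b : B, (if b = 1 then (1 : ℝ) else c + 1) * ‖f (a, b) s‖ ^ 2 =
        (c + 1) * ‖f (a, b) s‖ ^ 2 - (if b = 1 then c * ‖f (a, b) s‖ ^ 2 else 0) := fun b => by
      split_ifs <;> ring
    simp only [h1, Finset.sum_sub_distrib, ← Finset.mul_sum, Finset.sum_ite_eq', Finset.mem_univ,
      if_true, Pi.sub_apply]
    rw [parseval (fun b => f (a, b) s), apply_one (fun b => f (a, b) s),
      sum_sum_norm_sub (fun ν => g ν a s), hcardB]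
    ring
  have hTdef : wnorm (fun x : A × B => W x.1 * (if x.2 = 1 then 1 else c + 1)) f =
      c * ∑ ν, wnorm W (g ν) + c / 2 * ∑ ν, ∑ ν', wnorm W (g ν - g ν') := by
    have h1 : ∀ a : A, ∑ b, W a * (if b = 1 then (1 : ℝ) else c + 1) * ∑ s, ‖f (a, b) s‖ ^ 2 =
        W a * ∑ s, ∑ b, (if b = 1 then (1 : ℝ) else c + 1) * ‖f (a, b) s‖ ^ 2 := by
      intro a
      rw [Finset.sum_comm, Finset.mul_sum]
      exact Finset.sum_congr rfl fun b _ => by rw [mul_assoc, Finset.mul_sum]
    simp only [wnorm, sum_prod', h1, hform]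
    simp only [Finset.mul_sum, Finset.sum_add_distrib, mul_add]
    congr 1
    · rw [Finset.sum_congr rfl fun a _ => Finset.sum_comm, Finset.sum_comm]
      exact Finset.sum_congr rfl fun ν _ => Finset.sum_congr rfl fun a _ =>
        Finset.sum_congr rfl fun s _ => by ring
    · rw [Finset.sum_congr rfl fun a _ => Finset.sum_comm, Finset.sum_comm]
      refine Finset.sum_congr rfl fun ν _ => ?_
      rw [Finset.sum_congr rfl fun a _ => Finset.sum_comm, Finset.sum_comm]
      exact Finset.sum_congr rfl fun ν' _ => Finset.sum_congr rfl fun a _ =>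
        Finset.sum_congr rfl fun s _ => by ring
  set M : ℝ := (Fintype.card S : ℝ) * (Nat.card A : ℝ) ^ 2 with hM
  have hM0 : 0 ≤ M := by positivity
  set K := Finset.univ.filter fun ν => g ν ≠ 0 with hK
  have hKmem : ∀ ν, ν ∈ K ↔ g ν ≠ 0 := fun ν => by simp [hK]
  have hk1 : 1 ≤ (K.card : ℝ) := by
    rw [Nat.one_le_cast, Nat.one_le_iff_ne_zero, Finset.card_ne_zero]
    by_contra h
    rw [Finset.not_nonempty_iff_eq_empty] at h
    apply hne
    funext x s
    have h0 : (fun b => f (x.1, b) s) = 0 := eq_zero_of_coef fun ν => by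
      have : g ν = 0 := by
        by_contra h'
        have := (hKmem ν).mpr h'
        rw [h] at this
        exact Finset.notMem_empty _ this
      exact congrFun (congrFun this x.1) s
    exact congrFun h0 x.2
  have hb1 : (K.card : ℝ) * M ≤ ∑ ν, wnorm W (g ν) := by
    refine le_trans ?_ (Finset.sum_le_sum_of_subset_of_nonneg (Finset.subset_univ K)
      fun ν _ _ => wnorm_nonneg hW _)
    rw [← nsmul_eq_mul, ← Finset.sum_const]
    exact Finset.sum_le_sum fun ν hν => hA _ (hcoef ν) ((hKmem ν).mp hν)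
  have hb2 : 2 * (K.card : ℝ) * (Kᶜ.card : ℝ) * M ≤ ∑ ν, ∑ ν', wnorm W (g ν - g ν') := by
    have hz : ∀ ν ∈ Kᶜ, g ν = 0 := fun ν hν => by
      by_contra h; exact Finset.mem_compl.mp hν ((hKmem ν).mpr h)
    have h2 : ∀ ν ∈ K, (Kᶜ.card : ℝ) * M ≤ ∑ ν', wnorm W (g ν - g ν') := by
      intro ν hν
      refine le_trans ?_ (Finset.sum_le_sum_of_subset_of_nonneg (Finset.subset_univ Kᶜ)
        fun ν' _ _ => wnorm_nonneg hW _)
      rw [← nsmul_eq_mul, ← Finset.sum_const]
      exact Finset.sum_le_sum fun ν' hν' => hA _ (hcoef' ν ν')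
        (by rw [hz ν' hν', sub_zero]; exact (hKmem ν).mp hν)
    have h3 : ∀ ν ∈ Kᶜ, (K.card : ℝ) * M ≤ ∑ ν', wnorm W (g ν - g ν') := by
      intro ν hν
      refine le_trans ?_ (Finset.sum_le_sum_of_subset_of_nonneg (Finset.subset_univ K)
        fun ν' _ _ => wnorm_nonneg hW _)
      rw [← nsmul_eq_mul, ← Finset.sum_const]
      exact Finset.sum_le_sum fun ν' hν' => hA _ (hcoef' ν ν')
        (by rw [hz ν hν, zero_sub, neg_ne_zero]; exact (hKmem ν').mp hν')
    rw [← Finset.sum_add_sum_compl K]
    have e : 2 * (K.card : ℝ) * (Kᶜ.card : ℝ) * M =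
        (K.card : ℝ) * ((Kᶜ.card : ℝ) * M) + (Kᶜ.card : ℝ) * ((K.card : ℝ) * M) := by ring
    rw [e]
    exact add_le_add (by simpa [nsmul_eq_mul] using Finset.card_nsmul_le_sum K _ _ h2)
      (by simpa [nsmul_eq_mul] using Finset.card_nsmul_le_sum Kᶜ _ _ h3)
  have hcompl : (Kᶜ.card : ℝ) = c - K.card := by
    rw [← hcardB, eq_sub_iff_add_eq]
    exact_mod_cast Finset.card_compl_add_card K
  have hkc : 0 ≤ c - (K.card : ℝ) := hcompl ▸ Nat.cast_nonneg _
  rw [hTdef]
  have e : (Fintype.card S : ℝ) * (Nat.card (A × B) : ℝ) ^ 2 = c * (c * M) := by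
    rw [Nat.card_prod, hM, hc]; push_cast; ring
  rw [e]
  have h4 : c * M ≤ (K.card : ℝ) * M + (K.card : ℝ) * (c - K.card) * M := by
    nlinarith [mul_nonneg (mul_nonneg hkc (sub_nonneg.mpr hk1)) hM0]
  rw [hcompl] at hb2
  nlinarith [mul_le_mul_of_nonneg_left (h4.trans (add_le_add hb1 (le_refl _))) hc0.le,
    mul_le_mul_of_nonneg_left hb2 hc0.le]

/-- Pulling back along an injective map. -/
theorem good_comap {L : (S → ℂ) → Prop} {A C : Type*} [CommGroup A] [Finite A] [CommGroup C]
    [Finite C] {W : A → ℝ} (hA : Good L A W) (ι : C →* A) (hι : Function.Injective ι) {w : C → ℝ}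
    (hw : ∀ y, W (ι y) ≤ w y) : Good L C w := by
  intro f hf hne
  set r : ℂ := (Nat.card A : ℂ) / Nat.card C with hr
  set f' : A → S → ℂ := Function.extend ι (fun y => r • f y) 0 with hf'
  have hval : ∀ y, f' (ι y) = r • f y := fun y => hι.extend_apply _ _ y
  have hout : ∀ a, a ∉ Set.range ι → f' a = 0 := fun a ha => Function.extend_apply' _ _ _ ha
  have hC0 : (Nat.card C : ℂ) ≠ 0 := Nat.cast_ne_zero.mpr Nat.card_pos.ne'
  have hA0 : (Nat.card A : ℂ) ≠ 0 := Nat.cast_ne_zero.mpr Nat.card_pos.ne'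
  have hf'L : ∀ μ : Cfsg.IrrCharacter A, L fun s => Cfsg.classInner (fun a => f' a s) μ := by
    intro μ
    obtain ⟨l, hl⟩ := exists_hom μ
    have h := hf ⟨_, CharCore.isIrrCharacter_hom (l.comp ι)⟩
    convert h using 1
    funext s
    rw [CharCore.classInner_def, CharCore.classInner_def,
      ← Fintype.sum_of_injective ι hι (fun y => r * f y s * conj ((μ : A → ℂ) (ι y)))
        (fun a => f' a s * conj ((μ : A → ℂ) a)) (fun a ha => by rw [hout a ha]; simp)
        (fun y => by rw [hval]; simp), Finset.mul_sum, Finset.mul_sum]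
    refine Finset.sum_congr rfl fun y _ => ?_
    rw [hl, hr]
    simp only [MonoidHom.comp_apply]
    field_simp
  have hne' : f' ≠ 0 := fun h => hne (funext fun y => by
    have := congrFun h (ι y)
    rw [hval] at this
    exact (smul_eq_zero.mp this).resolve_left (div_ne_zero hA0 hC0))
  have h := hA f' hf'L hne'
  have hT : wnorm W f' = ∑ y, W (ι y) * ∑ s, ‖r • f y s‖ ^ 2 := by
    rw [wnorm, ← Fintype.sum_of_injective ι hι (fun y => W (ι y) * ∑ s, ‖r • f y s‖ ^ 2)
      (fun a => W a * ∑ s, ‖f' a s‖ ^ 2) (fun a ha => by rw [hout a ha]; simp)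
      (fun y => by simp [hval])]
  rw [hT] at h
  have hrn : ‖r‖ = (Nat.card A : ℝ) / Nat.card C := by simp [hr]
  simp only [smul_eq_mul, norm_mul, mul_pow, ← Finset.mul_sum, hrn] at h
  have hC0' : (0 : ℝ) < Nat.card C := by exact_mod_cast Nat.card_pos
  have hA0' : (0 : ℝ) < Nat.card A := by exact_mod_cast Nat.card_pos
  have h2 : (Fintype.card S : ℝ) * (Nat.card A : ℝ) ^ 2 ≤
      ((Nat.card A : ℝ) / Nat.card C) ^ 2 * ∑ y, W (ι y) * ∑ s, ‖f y s‖ ^ 2 := by
    refine h.trans (le_of_eq ?_)
    rw [Finset.mul_sum]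
    exact Finset.sum_congr rfl fun y _ => by ring
  have h3 : (Fintype.card S : ℝ) * (Nat.card C : ℝ) ^ 2 ≤ ∑ y, W (ι y) * ∑ s, ‖f y s‖ ^ 2 := by
    rw [div_pow, div_mul_eq_mul_div, le_div_iff₀ (by positivity)] at h2
    nlinarith [pow_pos hA0' 2]
  exact h3.trans (Finset.sum_le_sum fun y _ =>
    mul_le_mul_of_nonneg_right (hw y) (Finset.sum_nonneg fun s _ => sq_nonneg _))

section Series

variable {V : Type*} [CommGroup V] [Finite V] {C : Type u} [CommGroup C] [Finite C]
  (α : C →* MulAut V)

/-- The commutator map of an operator. -/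
def delta (y : C) : V →* V := (α y).toMonoidHom / MonoidHom.id V

omit [Finite V] [Finite C] in
theorem delta_apply (y : C) (x : V) : delta α y x = α y x / x := rfl

/-- The weight of a series. -/
theorem exists_good {L : (S → ℂ) → Prop} (hL : Ample L) {p : ℕ} (hp : ∀ x : V, x ^ p = 1)
    (hC : Nat.Coprime p (Nat.card C)) :
    ∀ (n : ℕ) (U : Subgroup V), Nat.card U ≤ n → (∀ y, ∀ x ∈ U, α y x ∈ U) →
      ∃ (A : Type u) (_ : CommGroup A) (_ : Finite A) (W : A → ℝ) (ι : C →* A),
        Good L A W ∧ (∀ a, 0 ≤ W a) ∧ (∀ y, ι y = 1 ↔ ∀ x ∈ U, α y x = x) ∧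
        ∀ y, W (ι y) ≤ (Nat.card (U.map (delta α y)) : ℝ) := by
  classical
  intro n
  induction n with
  | zero => intro U hU; exact absurd (Nat.le_zero.mp hU) Nat.card_pos.ne'
  | succ n ih =>
    intro U hU hinv
    by_cases hbot : U = ⊥
    · refine ⟨PUnit.{u+1}, inferInstance, inferInstance, fun _ => 1, 1, good_punit hL,
        fun _ => zero_le_one, fun y => ⟨fun _ x hx => ?_, fun _ => rfl⟩, fun y => ?_⟩
      · rw [hbot, Subgroup.mem_bot] at hx
        rw [hx, map_one]
      · show (1 : ℝ) ≤ _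
        exact Nat.one_le_cast.mpr Nat.card_pos
    obtain ⟨U', hU', hmax⟩ := Finset.exists_max_image
      (Finset.univ.filter fun N : Subgroup V => N < U ∧ ∀ y, ∀ x ∈ N, α y x ∈ N)
      (fun N => Nat.card N)
      ⟨⊥, Finset.mem_filter.mpr ⟨Finset.mem_univ _, bot_lt_iff_ne_bot.mpr hbot, fun y x hx => by
        rw [Subgroup.mem_bot] at hx ⊢; rw [hx, map_one]⟩⟩
    obtain ⟨-, hlt, hinv'⟩ := Finset.mem_filter.mp hU'
    have hle : U' ≤ U := hlt.le
    have hcard : Nat.card U' ≤ n := by
      have : Nat.card U' < Nat.card U := by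
        refine lt_of_le_of_ne (Subgroup.card_le_of_le hle) fun h => hlt.ne ?_
        exact Subgroup.eq_of_le_of_card_ge hle h.ge
      omega
    obtain ⟨A, iA, fA, W, ι, hgood, hW0, hker, hWle⟩ := ih U' hcard hinv'
    let K : Subgroup C :=
      { carrier := {y | ∀ x ∈ U, delta α y x ∈ U'}
        one_mem' := fun x _ => by simp [delta_apply]
        mul_mem' := fun {y z} hy hz x hx => by
          have e : delta α (y * z) x = delta α y (α z x) * delta α z x := by
            simp only [delta_apply, map_mul, MulAut.mul_apply, div_mul_div_cancel]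
          rw [e]
          exact U'.mul_mem (hy _ (hinv z x hx)) (hz x hx)
        inv_mem' := fun {y} hy x hx => by
          have e : delta α y⁻¹ x = (delta α y (α y⁻¹ x))⁻¹ := by
            simp [delta_apply]
          rw [e]
          exact U'.inv_mem (hy _ (hinv y⁻¹ x hx)) }
    have hfree : ∀ y, y ∉ K → ∀ x ∈ U, delta α y x ∈ U' → x ∈ U' := by
      intro y hy x hx hxy
      set N := U ⊓ U'.comap (delta α y) with hN
      have hNinv : ∀ z, ∀ u ∈ N, α z u ∈ N := by
        intro z u hu
        refine ⟨hinv z u hu.1, ?_⟩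
        show delta α y (α z u) ∈ U'
        have e : delta α y (α z u) = α z (delta α y u) := by
          rw [delta_apply, delta_apply, map_div, ← MulAut.mul_apply, ← map_mul, mul_comm, map_mul,
            MulAut.mul_apply]
        rw [e]
        exact hinv' z _ hu.2
      have hU'N : U' ≤ N := fun u hu => ⟨hle hu, U'.div_mem (hinv' y u hu) hu⟩
      have hNne : N ≠ U := fun h => hy fun u hu => (h.ge hu).2
      have hNlt : N < U := lt_of_le_of_ne inf_le_left hNne
      have := hmax N (Finset.mem_filter.mpr ⟨Finset.mem_univ _, hNlt, hNinv⟩)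
      rw [Subgroup.eq_of_le_of_card_ge hU'N this]
      exact ⟨hx, hxy⟩
    -- the quotient acts freely
    have hc : Nat.card (C ⧸ K) + 1 ≤ U'.relIndex U := by
      obtain ⟨x0, hx0, hx0'⟩ := SetLike.exists_of_lt hlt
      let F : C ⧸ K → U ⧸ U'.subgroupOf U := Quotient.lift
        (fun y => QuotientGroup.mk ⟨α y x0, hinv y x0 hx0⟩) fun y z hyz => by
          have h : y⁻¹ * z ∈ K := QuotientGroup.leftRel_apply.mp hyz
          refine QuotientGroup.eq.mpr (Subgroup.mem_subgroupOf.mpr ?_)
          show (α y x0)⁻¹ * α z x0 ∈ U'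
          have e : (α y x0)⁻¹ * α z x0 = α y (delta α (y⁻¹ * z) x0) := by
            rw [delta_apply, map_div, ← MulAut.mul_apply, ← map_mul, mul_inv_cancel_left,
              div_eq_mul_inv, mul_comm]
          rw [e]
          exact hinv' y _ (h x0 hx0)
      have hFinj : Function.Injective F := by
        intro a b
        induction a using QuotientGroup.induction_on with
        | H y =>
          induction b using QuotientGroup.induction_on with
          | H z =>
            intro h
            have h' : (α y x0)⁻¹ * α z x0 ∈ U' :=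
              Subgroup.mem_subgroupOf.mp (QuotientGroup.eq.mp h)
            refine QuotientGroup.eq.mpr ?_
            by_contra hK
            apply hx0'
            refine hfree _ hK x0 hx0 ?_
            have e : delta α (y⁻¹ * z) x0 = α y⁻¹ ((α y x0)⁻¹ * α z x0) := by
              rw [delta_apply, map_mul (α y⁻¹), map_inv (α y⁻¹), ← MulAut.mul_apply, ← map_mul,
                inv_mul_cancel, map_one, MulAut.one_apply, ← MulAut.mul_apply, ← map_mul,
                div_eq_mul_inv, mul_comm]
            rw [e]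
            exact hinv' _ _ h'
      have h1 : ¬ Function.Surjective F := by
        intro hs
        obtain ⟨q, hq⟩ := hs 1
        induction q using QuotientGroup.induction_on with
        | H y =>
          have h := Subgroup.mem_subgroupOf.mp ((QuotientGroup.eq_one_iff _).mp hq)
          have h2 := hinv' y⁻¹ _ h
          exact hx0' (by simpa using h2)
      have := Fintype.card_lt_of_injective_not_surjective F hFinj h1
      rw [Fintype.card_eq_nat_card, Fintype.card_eq_nat_card] at this
      exact this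
    refine ⟨A × (C ⧸ K), inferInstance, inferInstance,
      fun a => W a.1 * (if a.2 = 1 then 1 else (Nat.card (C ⧸ K) : ℝ) + 1),
      ι.prod (QuotientGroup.mk' K), good_prod hL hW0 hgood, fun a => ?_, fun y => ?_, fun y => ?_⟩
    · refine mul_nonneg (hW0 _) ?_
      split_ifs <;> positivity
    · rw [MonoidHom.prod_apply, Prod.mk_eq_one, hker, QuotientGroup.mk'_apply,
        QuotientGroup.eq_one_iff]
      refine ⟨fun h x hx => ?_, fun h => ⟨fun x hx => h x (hle hx), fun x hx => by
        rw [delta_apply, h x hx, div_self']; exact U'.one_mem⟩⟩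
      set u := delta α y x with hu
      have hxu : α y x = u * x := by rw [hu, delta_apply, div_mul_cancel]
      have hfix : α y u = u := h.1 u (h.2 x hx)
      have hit : ∀ k : ℕ, α (y ^ k) x = u ^ k * x := by
        intro k
        induction k with
        | zero => simp
        | succ k hk =>
          rw [pow_succ', map_mul, MulAut.mul_apply, hk, map_mul, map_pow, hfix, hxu, ← mul_assoc,
            ← pow_succ]
      have h1 := hit (orderOf y)
      rw [pow_orderOf_eq_one, map_one, MulAut.one_apply] at h1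
      have h2 : u ^ orderOf y = 1 := by
        rw [eq_comm, mul_eq_right] at h1; exact h1
      have h3 : u = 1 := orderOf_eq_one_iff.mp (Nat.eq_one_of_dvd_coprimes
        (hC.coprime_dvd_right (orderOf_dvd_natCard y))
        (orderOf_dvd_of_pow_eq_one (hp u)) (orderOf_dvd_of_pow_eq_one h2))
      rw [hxu, h3, one_mul]
    · show W (ι y) * (if (QuotientGroup.mk y : C ⧸ K) = 1 then 1 else _) ≤ _
      split_ifs with hy
      · rw [mul_one]
        refine (hWle y).trans ?_
        exact_mod_cast Subgroup.card_le_of_le (Subgroup.map_mono hle)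
      · have hyK : y ∉ K := fun h => hy ((QuotientGroup.eq_one_iff y).mpr h)
        set R := U.map (delta α y) with hR
        have hidx : U'.relIndex R = U'.relIndex U := by
          rw [hR, ← Subgroup.relIndex_comap, ← Subgroup.inf_relIndex_right]
          congr 1
          refine le_antisymm (fun x hx => hfree y hyK x hx.2 hx.1)
            (fun x hx => ⟨U'.div_mem (hinv' y x hx) hx, hle hx⟩)
        have hcardR : Nat.card R = Nat.card ↥(U' ⊓ R) * U'.relIndex U := by
          rw [← hidx, ← Subgroup.relIndex_bot_left, ← Subgroup.relIndex_bot_left,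
            ← Subgroup.inf_relIndex_right U' R,
            Subgroup.relIndex_mul_relIndex _ _ _ bot_le inf_le_right]
        have h1 : Nat.card (U'.map (delta α y)) ≤ Nat.card ↥(U' ⊓ R) := by
          refine Subgroup.card_le_of_le (le_inf ?_ (Subgroup.map_mono hle))
          rintro _ ⟨x, hx, rfl⟩
          exact U'.div_mem (hinv' y x hx) hx
        rw [hcardR, Nat.cast_mul]
        refine mul_le_mul ((hWle y).trans (by exact_mod_cast h1)) ?_ (by positivity) (Nat.cast_nonneg _)
        exact_mod_cast hc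

end Series

end Cfsg.Agent.Blocks88.AbWeight
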