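import Cfsg.Agent.Lib.BlocksDefect.Lifting
import Cfsg.Agent.Lib.BlocksCore.WeakOrth
import Cfsg.Agent.Lib.CharCore.Complete
import Cfsg.Agent.Lib.CharClifford.Central
import Mathlib.GroupTheory.NoncommCoprod

/-!
# Elementary facts on defect classes

For a defect class of a block, the least `p`-exponent of a degree in the block is the `p`-exponent
of the class size, and the characters of height zero take unit values on the class.
-/

namespace Cfsg.Agent.Blocks88

open BlocksCore

variable {G : Type*} [Group G] [Finite G] {p : ℕ} {M : Ideal AlgInt}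

/-- Averages of a character along the second factor of a product are algebraic integers. -/
theorem isIntegral_char_average {A D : Type*} [Group A] [Finite A] [Group D] [Fintype D]
    {ψ : A × D → ℂ} (hψ : IsCharacter (A × D) ψ) (a : A) :
    IsIntegral ℤ ((Nat.card D : ℂ)⁻¹ * ∑ u : D, ψ (a, u)) := by
  have := Fintype.ofFinite A
  obtain ⟨c, rfl⟩ := CharCore.IsCharacter.exists_sum hψ
  simp only [Finset.sum_apply, Pi.smul_apply, smul_eq_mul]
  rw [Finset.sum_comm, Finset.mul_sum]
  refine IsIntegral.sum _ fun θ _ => ?_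
  rw [← Finset.mul_sum, mul_left_comm]
  refine IsIntegral.mul (map_natCast (algebraMap ℤ ℂ) (c θ) ▸ isIntegral_algebraMap) ?_
  let P : Subgroup (A × D) := (MonoidHom.inr A D).range
  let e : D ≃ P := Equiv.ofBijective (fun u => ⟨(1, u), u, rfl⟩)
    ⟨fun u v h => (Prod.mk.injEq _ _ _ _ ▸ congrArg Subtype.val h : _ ∧ _).2,
      fun ⟨_, u, hu⟩ => ⟨u, Subtype.ext hu⟩⟩
  have := Fintype.ofFinite P
  have hg : ((a, 1) : A × D) ∈ Subgroup.centralizer (P : Set (A × D)) := by
    rintro _ ⟨u, rfl⟩
    simp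
  refine (congrArg (IsIntegral ℤ) ?_).mp (BlocksDefect.isIntegral_coset_average θ (a, 1) P hg)
  rw [← Nat.card_congr e]
  congr 1
  refine (Fintype.sum_equiv e _ _ fun u => ?_).symm
  exact congrArg (θ : A × D → ℂ) (Prod.ext (mul_one a).symm (one_mul u).symm)

/-- The average of `χ (g u) * conj (μ u)` over a subgroup centralised by `g` is an algebraic
integer. -/
theorem isIntegral_twisted_average {χ : G → ℂ} (hχ : IsCharacter G χ) (g : G) (D : Subgroup G)
    [Fintype D] (hg : g ∈ Subgroup.centralizer (D : Set G)) {μ : D → ℂ} (hμ : IsCharacter D μ) :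
    IsIntegral ℤ ((Nat.card D : ℂ)⁻¹ * ∑ u : D, χ (g * u) * starRingEnd ℂ (μ u)) := by
  let φ : Subgroup.zpowers g × D →* G :=
    MonoidHom.noncommCoprod (Subgroup.zpowers g).subtype D.subtype fun a u => by
      obtain ⟨i, hi⟩ := a.2
      have hc : Commute g (u : G) := (Subgroup.mem_centralizer_iff.mp hg u u.2).symm
      show Commute (a : G) (u : G)
      rw [← hi]; exact hc.zpow_left i
  have hψ : IsCharacter (Subgroup.zpowers g × D)
      ((χ ∘ φ) * (fun x => starRingEnd ℂ (μ x.2))) :=
    CharCore.isCharacter_mul (CharCore.isCharacter_comp hχ φ)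
      (CharCore.isCharacter_comp (CharCore.IsCharacter.star hμ) (MonoidHom.snd (Subgroup.zpowers g) D))
  have := isIntegral_char_average hψ ⟨g, Subgroup.mem_zpowers g⟩
  simpa [φ] using this

theorem charDegree_cast (χ : IrrCharacter G) :
    (χ : G → ℂ) 1 = (charDegree (χ : G → ℂ) : ℂ) := by
  have := Fintype.ofFinite G
  exact irr_one_eq χ

variable [Fact p.Prime]

theorem exists_ordProj (n : ℕ) (hn : n ≠ 0) :
    ∃ u : ℕ, ¬ p ∣ u ∧ n = p ^ n.factorization p * u :=
  ⟨n / p ^ n.factorization p, Nat.not_dvd_ordCompl (Fact.out : p.Prime) hn,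
    (Nat.ordProj_mul_ordCompl_eq_self n p).symm⟩

/-- At a class where the central characters are units, the degree carries at least the
`p`-part of the class size. -/
theorem index_factorization_le (hM : IsPModular p M) (χ : IrrCharacter G) {g : G}
    (h : ¬ MemLocalIdeal M (centralChar (χ : G → ℂ) g)) :
    ((Subgroup.centralizer ({g} : Set G)).index).factorization p ≤
      (charDegree (χ : G → ℂ)).factorization p := by
  have := isPrime hM
  have hp : p.Prime := Fact.out
  have := Fintype.ofFinite G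
  by_contra hlt
  push Not at hlt
  apply h
  obtain ⟨u, hu, hdu⟩ := exists_ordProj (p := p) _ (charDegree_pos χ).ne'
  set d := (charDegree (χ : G → ℂ)).factorization p
  obtain ⟨c, hc⟩ : p ^ (d + 1) ∣ (Subgroup.centralizer ({g} : Set G)).index :=
    (pow_dvd_pow p hlt).trans (Nat.ordProj_dvd _ p)
  have h1 : MemLocalIdeal M ((p : ℂ) * c * (χ : G → ℂ) g * (u : ℂ)⁻¹) := by
    refine memLocalIdeal_mul_right (memLocalIdeal_mul_right (memLocalIdeal_mul_right ?_
      (memLocalRing_natCast c)) (memLocalRing_of_isIntegral (isIntegral_irr χ g)))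
      (memLocalRing_natCast_inv hM hu)
    exact (memLocalIdeal_natCast_iff hM p).mpr dvd_rfl
  refine (congrArg (MemLocalIdeal M) ?_).mp h1
  rw [centralChar, charDegree_cast, hdu, hc]
  have hu0 : (u : ℂ) ≠ 0 := by
    intro h0; exact hu (by simp [Nat.cast_eq_zero.mp h0])
  have hp0 : (p : ℂ) ≠ 0 := Nat.cast_ne_zero.mpr hp.ne_zero
  push_cast
  field_simp
  ring

/-- The least `p`-exponent of a degree in a block is the `p`-exponent of a defect class. -/
theorem sInf_eq_of_defectClass (hM : IsPModular p M) {B : Set (IrrCharacter G)}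
    (hB : IsPBlock M B) {g : G} (hg : IsDefectClass M B g) :
    sInf ((fun χ : IrrCharacter G => (charDegree (χ : G → ℂ)).factorization p) '' B) =
      ((Subgroup.centralizer ({g} : Set G)).index).factorization p := by
  classical
  have := isPrime hM
  have hp : p.Prime := Fact.out
  have := Fintype.ofFinite G
  obtain ⟨hring, hunit, hω⟩ := hg
  set m := sInf ((fun χ : IrrCharacter G => (charDegree (χ : G → ℂ)).factorization p) '' B) with hm
  set k := ((Subgroup.centralizer ({g} : Set G)).index).factorization p with hk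
  refine le_antisymm ?_ ?_
  swap
  · obtain ⟨χ₀, hχ₀⟩ := isPBlock_nonempty hB
    refine le_csInf ⟨_, ⟨χ₀, hχ₀, rfl⟩⟩ ?_
    rintro _ ⟨χ, hχ, rfl⟩
    exact index_factorization_le hM χ (hω χ hχ)
  by_contra hlt
  push Not at hlt
  apply hunit
  obtain ⟨D, hD⟩ := BlocksDefect.exists_isSylowCent p g
  have := Fintype.ofFinite D
  have hgreg : ¬ p ∣ orderOf g := fun hd => hunit (by
    rw [blockCoeff_eq_zero_of_dvd_orderOf hM hB hd]; exact memLocalIdeal_zero)
  let F : G → ℂ := ∑ χ : IrrCharacter G,
    ((if χ ∈ B then charDegree (χ : G → ℂ) / p ^ m else 0 : ℕ) : ℂ) • (χ : G → ℂ)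
  have hFchar : IsCharacter G F := CharCore.isCharacter_sum_irr _
  have hdiv : ∀ χ ∈ B, p ^ m ∣ charDegree (χ : G → ℂ) := fun χ hχ =>
    (pow_dvd_pow p (show m ≤ (charDegree (χ : G → ℂ)).factorization p from
      Nat.sInf_le ⟨χ, hχ, rfl⟩)).trans (Nat.ordProj_dvd _ p)
  have hFB : ∀ x, (p : ℂ) ^ m * F x⁻¹ = (Nat.card G : ℂ) * blockCoeff B x := by
    intro x
    rw [blockCoeff_eq_sum, mul_inv_cancel_left₀ (Nat.cast_ne_zero.mpr Nat.card_pos.ne')]
    simp only [F, Finset.sum_apply, Pi.smul_apply, smul_eq_mul, Finset.mul_sum]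
    refine Finset.sum_congr rfl fun χ _ => ?_
    by_cases hχ : χ ∈ B
    · rw [if_pos hχ, Set.indicator_of_mem hχ, Pi.one_apply, one_mul, charDegree_cast χ,
        ← mul_assoc, ← Nat.cast_pow, ← Nat.cast_mul, Nat.mul_div_cancel' (hdiv χ hχ)]
    · simp [hχ]
  have hp0 : (p : ℂ) ≠ 0 := Nat.cast_ne_zero.mpr hp.ne_zero
  have hvan : ∀ u : D, u ≠ 1 → F (g⁻¹ * u) = 0 := by
    intro u hu
    have hcomm : Commute g⁻¹ (u : G) :=
      (BlocksDefect.IsSylowCent.le_centralizer hD u.2 g rfl : g * u = u * g) |> Commute.inv_left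
    have hsing : p ∣ orderOf (g⁻¹ * (u : G)) := by
      by_contra hno
      obtain ⟨e, he⟩ := (IsPGroup.iff_orderOf.mp hD.isPGroup) u
      refine hu (Subtype.ext ?_)
      exact BlocksDefect.eq_one_of_mul_pRegular (p := p) hp
        (by rwa [Subgroup.orderOf_coe]) hcomm (by rwa [orderOf_inv]) hno
    have h1 := hFB (g⁻¹ * (u : G))⁻¹
    rw [inv_inv, blockCoeff_eq_zero_of_dvd_orderOf hM hB (by rwa [orderOf_inv]), mul_zero] at h1
    exact (mul_eq_zero.mp h1).resolve_left (pow_ne_zero _ hp0)
  have hint := isIntegral_twisted_average hFchar g⁻¹ D (Subgroup.inv_mem _ (by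
    intro u hu
    exact (BlocksDefect.IsSylowCent.le_centralizer hD hu g rfl).symm))
    CharCore.isCharacter_one
  rw [Finset.sum_eq_single (1 : D) (fun u _ hu => by rw [hvan u hu, zero_mul])
    (fun h => absurd (Finset.mem_univ _) h)] at hint
  simp only [OneMemClass.coe_one, mul_one, Pi.one_apply, map_one] at hint
  set z := (Nat.card D : ℂ)⁻¹ * F g⁻¹ with hz
  obtain ⟨w, hw, hGw⟩ := exists_ordProj (p := p) (Nat.card G) Nat.card_pos.ne'
  have hδ : (Nat.card G).factorization p =
      (Nat.card (Subgroup.centralizer ({g} : Set G))).factorization p + k := by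
    rw [hk, ← Subgroup.card_mul_index (Subgroup.centralizer ({g} : Set G)),
      Nat.factorization_mul Nat.card_pos.ne' Subgroup.index_ne_zero_of_finite, Finsupp.add_apply]
  obtain ⟨e, he⟩ : ∃ e, m = k + 1 + e := ⟨m - (k + 1), by omega⟩
  have hF1 : F g⁻¹ = (Nat.card D : ℂ) * z := by
    rw [hz, mul_inv_cancel_left₀ (Nat.cast_ne_zero.mpr Nat.card_pos.ne')]
  have key := hFB g
  rw [hF1, hD.natCard, hGw, hδ, he] at key
  have hw0 : (w : ℂ) ≠ 0 := by
    intro h0; exact hw (by simp [Nat.cast_eq_zero.mp h0])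
  have hcoeff : blockCoeff B g = (p : ℂ) * ((p : ℂ) ^ e * z * (w : ℂ)⁻¹) := by
    push_cast at key
    have hne : (p : ℂ) ^ ((Nat.card (Subgroup.centralizer ({g} : Set G))).factorization p + k) * w ≠ 0 :=
      mul_ne_zero (pow_ne_zero _ hp0) hw0
    apply mul_left_cancel₀ hne
    rw [← key]
    field_simp
    ring
  rw [hcoeff]
  refine memLocalIdeal_mul_right ((memLocalIdeal_natCast_iff hM p).mpr dvd_rfl) ?_
  exact (localRing M).mul_mem ((localRing M).mul_mem
    ((localRing M).pow_mem (memLocalRing_natCast p) e) (memLocalRing_of_isIntegral hint))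
    (memLocalRing_natCast_inv hM hw)

/-- The order of a defect group is `p` to the defect of the block. -/
theorem natCard_defectGroup (hM : IsPModular p M) {B : Set (IrrCharacter G)}
    (hB : IsPBlock M B) {D : Subgroup G} (hD : IsDefectGroup p M B D) :
    Nat.card D = p ^ blockDefect p B := by
  obtain ⟨g, hg, hS⟩ := BlocksDefect.isDefectGroup_iff.mp hD
  rw [hS.natCard, blockDefect, sInf_eq_of_defectClass hM hB hg,
    ← Subgroup.card_mul_index (Subgroup.centralizer ({g} : Set G)),
    Nat.factorization_mul Nat.card_pos.ne' Subgroup.index_ne_zero_of_finite, Finsupp.add_apply,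
    Nat.add_sub_cancel]

/-- A character of height zero takes a unit value at a defect class. -/
theorem apply_notMem_of_height_zero (hM : IsPModular p M) {B : Set (IrrCharacter G)}
    (hB : IsPBlock M B) {g : G} (hg : IsDefectClass M B g) {χ : IrrCharacter G} (hχ : χ ∈ B)
    (h0 : blockHeight p B (χ : G → ℂ) = 0) : ¬ MemLocalIdeal M ((χ : G → ℂ) g) := by
  have := isPrime hM
  have hp : p.Prime := Fact.out
  have := Fintype.ofFinite G
  intro hmem
  apply hg.2.2 χ hχ
  have hle : (charDegree (χ : G → ℂ)).factorization p ≤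
      ((Subgroup.centralizer ({g} : Set G)).index).factorization p := by
    have := Nat.le_of_sub_eq_zero h0
    rwa [sInf_eq_of_defectClass hM hB hg] at this
  have heq := le_antisymm hle (index_factorization_le hM χ (hg.2.2 χ hχ))
  obtain ⟨u, hu, hdu⟩ := exists_ordProj (p := p) _ (charDegree_pos χ).ne'
  obtain ⟨c, hc⟩ := Nat.ordProj_dvd ((Subgroup.centralizer ({g} : Set G)).index) p
  refine (congrArg (MemLocalIdeal M) ?_).mp (memLocalIdeal_mul_right
    (memLocalIdeal_mul_right hmem (memLocalRing_natCast c)) (memLocalRing_natCast_inv hM hu))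
  rw [centralChar, charDegree_cast, hdu, heq]
  generalize ((Subgroup.centralizer ({g} : Set G)).index).factorization p = e at hc ⊢
  rw [hc]
  have hu0 : (u : ℂ) ≠ 0 := by
    intro h0; exact hu (by simp [Nat.cast_eq_zero.mp h0])
  have hp0 : (p : ℂ) ≠ 0 := Nat.cast_ne_zero.mpr hp.ne_zero
  push_cast
  field_simp

end Cfsg.Agent.Blocks88
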