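import Cfsg.Agent.Lib.PGroup.Extraspecial
import Cfsg.Agent.Lib.PGroup.Basic
import Cfsg.Agent.Lib.PGroup.Commutator
import Mathlib

/-!
# `p`-groups with an extraspecial subgroup of index `p`
-/

namespace Cfsg.Agent.Blocks88

open Subgroup
open scoped commutatorElement

variable {S : Type*} [Group S] [Finite S] {p : ℕ} [hp : Fact p.Prime] (hS : IsPGroup p S)
  {Q : Subgroup S} (hQ : Cfsg.IsExtraspecial p Q) (hQi : Q.index = p)
include hS hQ hQi

theorem esMax_center_le : (center Q).map Q.subtype ≤ center S := by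
  haveI := PGroup.normal_of_index_eq_prime hS hQi
  have hle : center S ⊓ Q ≤ (center Q).map Q.subtype := fun z hz =>
    ⟨⟨z, hz.2⟩, mem_center_iff.mpr fun g => Subtype.ext (mem_center_iff.mp hz.1 g), rfl⟩
  have hQne : Q ≠ ⊥ := fun h => by
    have h1 := Subgroup.card_subgroup_dvd_card (center Q)
    rw [hQ.2, show Nat.card Q = 1 by rw [h, card_bot], Nat.dvd_one] at h1
    exact hp.out.ne_one h1
  have hne : center S ⊓ Q ≠ ⊥ := by rw [inf_comm]; exact PGroup.inf_center_ne_bot hS hQne
  have heq : center S ⊓ Q = (center Q).map Q.subtype := by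
    refine eq_of_le_of_card_ge hle ?_
    rw [card_map_of_injective Q.subtype_injective, hQ.2]
    exact PGroup.le_card_of_ne_bot hS hne
  rw [← heq]
  exact inf_le_left

theorem esMax_center_cases : center S = (center Q).map Q.subtype ∨
    (Q ⊔ center S = ⊤ ∧ Nat.card (center S) = p ^ 2) := by
  haveI := PGroup.normal_of_index_eq_prime hS hQi
  by_cases h : center S ≤ Q
  · refine Or.inl (le_antisymm (fun z hz => ?_) (esMax_center_le hS hQ hQi))
    exact ⟨⟨z, h hz⟩, mem_center_iff.mpr fun g => Subtype.ext (mem_center_iff.mp hz g), rfl⟩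
  refine Or.inr ⟨(PGroup.isCoatom_of_index_prime (by rw [hQi]; exact hp.out)).2 _
    (lt_of_le_of_ne le_sup_left fun he => h (he.symm ▸ le_sup_right)), ?_⟩
  have hinf : center S ⊓ Q = (center Q).map Q.subtype := le_antisymm
    (fun z hz => ⟨⟨z, hz.2⟩, mem_center_iff.mpr fun g => Subtype.ext (mem_center_iff.mp hz.1 g), rfl⟩)
    (le_inf (esMax_center_le hS hQ hQi) (map_subtype_le _))
  have h1 := relIndex_mul_relIndex ⊥ (center S ⊓ Q) (center S) bot_le inf_le_left
  rw [relIndex_bot_left, relIndex_bot_left, inf_relIndex_left, hinf,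
    card_map_of_injective Q.subtype_injective, hQ.2] at h1
  have h2 : Q.relIndex (center S) ∣ p := hQi ▸ relIndex_dvd_index_of_normal Q _
  rw [← h1, ((Nat.dvd_prime hp.out).mp h2).resolve_left (fun h3 => h (relIndex_eq_one.mp h3)), sq]

theorem esMax_card : ∃ k : ℕ, 1 ≤ k ∧ Nat.card Q = p ^ (2 * k + 1) ∧ Nat.card S = p ^ (2 + 2 * k) := by
  obtain ⟨k, hk, hk'⟩ := PGroup.xs_card_pow _ hQ rfl
  refine ⟨k, hk, hk', ?_⟩
  rw [← Q.card_mul_index, hk', hQi, ← pow_succ]
  congr 1
  omega

theorem esMax_derived : derivedSeries S 3 = ⊥ := by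
  haveI := PGroup.normal_of_index_eq_prime hS hQi
  have h1 : derivedSeries S 1 ≤ Q := by
    rw [derivedSeries_succ, derivedSeries_zero, commutator_le]
    intro a _ b _
    rw [← QuotientGroup.eq_one_iff, ← QuotientGroup.mk'_apply, map_commutatorElement,
      commutatorElement_eq_one_iff_commute]
    exact PGroup.commute_of_card_prime (p := p) (by rw [← index_eq_card, hQi]) _ _
  have h2 : derivedSeries S 2 ≤ (center Q).map Q.subtype := by
    rw [derivedSeries_succ, commutator_le]
    intro a ha b hb
    exact ⟨⁅(⟨a, h1 ha⟩ : Q), ⟨b, h1 hb⟩⁆, PGroup.xs_comm_mem hQ _ _, rfl⟩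
  rw [derivedSeries_succ, eq_bot_iff, commutator_le]
  intro a ha b hb
  rw [mem_bot, commutatorElement_eq_one_iff_mul_comm]
  exact (mem_center_iff.mp (esMax_center_le hS hQ hQi (h2 ha)) b).symm

theorem esMax_exponent (x : S) : x ^ p ^ 3 = 1 := by
  haveI := PGroup.normal_of_index_eq_prime hS hQi
  have h1 : x ^ p ∈ Q := by
    rw [← QuotientGroup.eq_one_iff, QuotientGroup.mk_pow, ← hQi, index_eq_card]
    exact pow_card_eq_one'
  have h2 := PGroup.xs_center_pow hQ (PGroup.xs_pow_mem hQ (⟨x ^ p, h1⟩ : Q))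
  have h3 := congrArg Subtype.val h2
  rw [SubgroupClass.coe_pow, SubgroupClass.coe_pow, ← pow_mul, ← pow_mul, OneMemClass.coe_one] at h3
  rwa [show p ^ 3 = p * (p * p) by ring]

theorem esMax_abelian_iff : (∃ A : Subgroup S, IsMulCommutative A ∧ A.index = p) ↔
    Nat.card S = p ^ 4 := by
  obtain ⟨k, hk, hkQ, hkS⟩ := esMax_card hS hQ hQi
  haveI := PGroup.normal_of_index_eq_prime hS hQi
  constructor
  · rintro ⟨A, hA, hAi⟩
    haveI := PGroup.normal_of_index_eq_prime hS hAi
    haveI := hA
    set B := A.subgroupOf Q with hB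
    have hBi : B.index ∣ p := hAi ▸ relIndex_dvd_index_of_normal A Q
    have hBc : ∀ a ∈ B, ∀ b ∈ B, a * b = b * a := fun a ha b hb =>
      Subtype.ext (by have h := congrArg Subtype.val (hA.is_comm.comm ⟨(a : S), ha⟩ ⟨(b : S), hb⟩); exact h)
    obtain ⟨x, hx⟩ : ∃ x : Q, x ∉ B := by
      by_contra h
      push Not at h
      exact PGroup.xs_center_ne_top hQ ((eq_top_iff' _).mpr fun a => mem_center_iff.mpr fun b =>
        hBc b (h b) a (h a))
    have hco : IsCoatom B := PGroup.isCoatom_of_index_prime (by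
      rw [((Nat.dvd_prime hp.out).mp hBi).resolve_left fun h => hx (index_eq_one.mp h ▸ mem_top x)]
      exact hp.out)
    have hC := PGroup.xs_commutator_le hQ
    let φ : B →* center Q := MonoidHom.mk' (fun b => ⟨⁅(b : Q), x⁆, PGroup.xs_comm_mem hQ _ _⟩)
      fun a b => Subtype.ext (PGroup.comm_mul_left hC (a : Q) b x)
    have hker : φ.ker.map B.subtype ≤ center Q := by
      rintro _ ⟨b, hb, rfl⟩
      have hbx : (b : Q) * x = x * b := commutatorElement_eq_one_iff_mul_comm.mp (congrArg Subtype.val hb)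
      refine mem_center_iff.mpr fun g => ?_
      have hle : B ⊔ zpowers x ≤ centralizer {(b : Q)} :=
        sup_le (fun a ha => mem_centralizer_singleton_iff.mpr (hBc a ha b b.2))
          (zpowers_le.mpr (mem_centralizer_singleton_iff.mpr hbx.symm))
      rw [hco.2 _ (lt_of_le_of_ne le_sup_left fun he => hx (he.symm ▸ (le_sup_right (a := B)) (mem_zpowers x)))] at hle
      exact mem_centralizer_singleton_iff.mp (hle (mem_top g))
    have h1 := card_subgroup_dvd_card φ.range
    rw [hQ.2] at h1
    have h2 := card_le_of_le hker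
    rw [card_map_of_injective B.subtype_injective, hQ.2] at h2
    have h3 : Nat.card B ≤ p * p := by
      rw [← φ.ker.card_mul_index, index_ker]
      exact Nat.mul_le_mul h2 (Nat.le_of_dvd hp.out.pos h1)
    have h4 : Nat.card Q ≤ p ^ 3 := by
      rw [← B.card_mul_index, pow_three, ← mul_assoc]
      exact Nat.mul_le_mul h3 (Nat.le_of_dvd hp.out.pos hBi)
    rw [hkQ] at h4
    have := (Nat.pow_le_pow_iff_right hp.out.one_lt).mp h4
    rw [hkS]; congr 1; omega
  · intro h4
    have hk1 : k = 1 := by
      have := Nat.pow_right_injective hp.out.two_le (hkS.symm.trans h4)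
      omega
    have hQ3 : Nat.card Q = p ^ 3 := by rw [hkQ, hk1]
    -- a fixed point on `Q` modulo its centre
    set Z := (center Q).map Q.subtype with hZ
    have hZc := esMax_center_le hS hQ hQi
    haveI hZn : Z.Normal := ⟨fun z hz g => by
      rwa [mem_center_iff.mp (hZc hz) g, mul_inv_cancel_right]⟩
    have hZlt : Z < Q := lt_of_le_of_ne (map_subtype_le _) fun he => by
      have := congrArg (fun H : Subgroup S => Nat.card H) he
      rw [hZ, card_map_of_injective Q.subtype_injective, hQ.2, hQ3] at this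
      have := Nat.pow_right_injective hp.out.two_le ((pow_one p).trans this)
      omega
    set π := QuotientGroup.mk' Z
    have hne : Q.map π ≠ ⊥ := fun h => hZlt.not_ge fun q hq => by
      have : π q ∈ Q.map π := mem_map_of_mem _ hq
      rwa [h, mem_bot, QuotientGroup.mk'_apply, QuotientGroup.eq_one_iff] at this
    haveI : (Q.map π).Normal := Normal.map inferInstance _ (QuotientGroup.mk'_surjective _)
    obtain ⟨w, hw, hw1⟩ := (Subgroup.bot_or_exists_ne_one _).resolve_left (PGroup.inf_center_ne_bot (hS.to_quotient Z) hne)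
    obtain ⟨x, hxQ, rfl⟩ := hw.1
    have hxZ : x ∉ Z := fun h => hw1 ((QuotientGroup.eq_one_iff x).mpr h)
    have hcomm : ∀ s : S, ⁅s, x⁆ ∈ Z := fun s => by
      rw [← QuotientGroup.eq_one_iff, ← QuotientGroup.mk'_apply, map_commutatorElement,
        commutatorElement_eq_one_iff_mul_comm]
      exact mem_center_iff.mp hw.2 _
    let ψ : S →* Z := MonoidHom.mk' (fun s => ⟨⁅s, x⁆, hcomm s⟩) fun a b => Subtype.ext (by
      show ⁅a * b, x⁆ = ⁅a, x⁆ * ⁅b, x⁆
      exact PGroup.commutatorElement_mul_left_of_mem_center (hZc (hcomm b)))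
    have hZcard : Nat.card Z = p := by rw [hZ, card_map_of_injective Q.subtype_injective, hQ.2]
    have hxc : x ∉ center S := fun h => hxZ ⟨⟨x, hxQ⟩, mem_center_iff.mpr fun g => Subtype.ext (mem_center_iff.mp h g), rfl⟩
    have hidx : ψ.ker.index = p := by
      have h1 := card_subgroup_dvd_card ψ.range
      rw [hZcard, ← index_ker] at h1
      refine ((Nat.dvd_prime hp.out).mp h1).resolve_left fun h => hxc (mem_center_iff.mpr fun g => ?_)
      have : g ∈ ψ.ker := index_eq_one.mp h ▸ mem_top g
      exact commutatorElement_eq_one_iff_mul_comm.mp (congrArg Subtype.val this)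
    refine ⟨ψ.ker, ?_, hidx⟩
    set A := ψ.ker
    have hA3 : Nat.card A = p ^ 3 := by
      have := A.card_mul_index
      rw [hidx, h4, pow_succ] at this
      exact Nat.eq_of_mul_eq_mul_right hp.out.pos this
    have hxA : x ∈ A := Subtype.ext (commutatorElement_self x)
    have hZA : Z ≤ A := fun z hz => Subtype.ext (commutatorElement_eq_one_iff_mul_comm.mpr
      (mem_center_iff.mp (hZc hz) x).symm)
    have hcen : (Z ⊔ zpowers x).subgroupOf A ≤ center A := by
      intro a ha
      refine mem_center_iff.mpr fun g => Subtype.ext ?_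
      have hle : Z ⊔ zpowers x ≤ centralizer {(g : S)} := by
        refine sup_le (fun z hz => mem_centralizer_singleton_iff.mpr (mem_center_iff.mp (hZc hz) g).symm)
          (zpowers_le.mpr (mem_centralizer_singleton_iff.mpr ?_))
        exact (commutatorElement_eq_one_iff_mul_comm.mp (congrArg Subtype.val g.2)).symm
      exact (mem_centralizer_singleton_iff.mp (hle ha)).symm
    obtain ⟨j, hj⟩ := PGroup.exists_card_eq_pow hS (Z ⊔ zpowers x)
    have hlt : Z < Z ⊔ zpowers x := lt_of_le_of_ne le_sup_left fun he =>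
      hxZ (he.symm ▸ (le_sup_right (a := Z)) (mem_zpowers x))
    have hj2 : 2 ≤ j := by
      have h1 : p < p ^ j := hj ▸ hZcard ▸ lt_of_le_of_ne (card_le_of_le hlt.le)
        fun he => hlt.ne (eq_of_le_of_card_ge hlt.le he.ge)
      nth_rewrite 1 [← pow_one p] at h1
      exact (Nat.pow_lt_pow_iff_right hp.out.one_lt).mp h1
    have hcard2 : p ^ 2 ≤ Nat.card (center A) := by
      refine le_trans ?_ (card_le_of_le hcen)
      rw [Nat.card_congr (subgroupOfEquivOfLe (sup_le hZA (zpowers_le.mpr hxA))).toEquiv, hj]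
      exact Nat.pow_le_pow_right hp.out.pos hj2
    have hq : Nat.card (A ⧸ center A) ≤ p := by
      have h := (center A).card_mul_index
      rw [hA3, index_eq_card] at h
      by_contra hh
      push Not at hh
      nlinarith [hp.out.pos]
    haveI : IsCyclic (A ⧸ center A) := by
      obtain ⟨i, hi⟩ := ((hS.to_subgroup A).to_quotient (center A)).exists_card_eq
      rcases Nat.lt_or_ge i 1 with h | h
      · rw [show i = 0 by omega, pow_zero] at hi
        haveI := (Nat.card_eq_one_iff_unique.mp hi).1
        infer_instance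
      · have : i = 1 := by
          have := (Nat.pow_le_pow_iff_right hp.out.one_lt).mp ((hi ▸ hq).trans (pow_one p).ge)
          omega
        exact isCyclic_of_prime_card (p := p) (by rw [hi, this, pow_one])
    exact ⟨⟨commutative_of_cyclic_center_quotient (QuotientGroup.mk' (center A))
      (QuotientGroup.ker_mk' _).le⟩⟩

end Cfsg.Agent.Blocks88
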