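import Mathlib.GroupTheory.Subgroup.Simple
import Mathlib.GroupTheory.QuotientGroup.Basic
import Mathlib.Order.Atoms.Finite
import Mathlib.Algebra.Group.Subgroup.Finite
import Mathlib
import Mathlib.Algebra.Group.Subgroup.Pointwise

/-!
# Complements in subgroup lattices
-/

namespace Cfsg.Agent.Blocks88

variable {G : Type*} [Group G] [Finite G]

/-- A complemented interval under a unique maximal subgroup yields complements. -/
theorem exists_complement {T X M : Subgroup G}
    (hTX : T ≤ X)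
    (hint : ∀ Y : Subgroup G, T ≤ Y → Y ≤ X → ∃ C : Subgroup G, T ≤ C ∧ C ≤ X ∧ Y ⊔ C = X ∧ Y ⊓ C = T)
    (huniq : ∀ M' : Subgroup G, IsCoatom M' → X ≤ M' → M' = M)
    {H : Subgroup G} (hH : ¬ H ≤ M) (hHT : H ⊓ T = ⊥) :
    ∃ C : Subgroup G, H ⊔ C = ⊤ ∧ H ⊓ C = ⊥ := by
  obtain ⟨C, hTC, hCX, hsup, hinf⟩ := hint (T ⊔ H ⊓ X) le_sup_left (sup_le hTX inf_le_right)
  refine ⟨C, ?_, ?_⟩
  · rcases eq_top_or_exists_le_coatom (H ⊔ C) with h | ⟨M', hM', hle⟩
    · exact h
    exfalso
    have hX' : X ≤ H ⊔ C := by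
      rw [← hsup]
      exact sup_le (sup_le (hTC.trans le_sup_right) (inf_le_left.trans le_sup_left)) le_sup_right
    exact hH (huniq M' hM' (hX'.trans hle) ▸ le_sup_left.trans hle)
  · rw [eq_bot_iff, ← hHT]
    refine le_inf inf_le_left (hinf ▸ le_inf ?_ inf_le_right)
    exact (le_inf inf_le_left (inf_le_right.trans hCX)).trans le_sup_right

/-- The complemented lattice of `X` read inside `G`. -/
theorem exists_complement_le {X : Subgroup G} (hK : ComplementedLattice (Subgroup X))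
    (Y : Subgroup G) (hY : Y ≤ X) : ∃ C : Subgroup G, C ≤ X ∧ Y ⊔ C = X ∧ Y ⊓ C = ⊥ := by
  obtain ⟨C, hC⟩ := hK.exists_isCompl (Y.subgroupOf X)
  refine ⟨C.map X.subtype, Subgroup.map_subtype_le _, ?_, ?_⟩
  · rw [← Subgroup.map_subgroupOf_eq_of_le hY, ← Subgroup.map_sup, hC.sup_eq_top,
      ← MonoidHom.range_eq_map, X.range_subtype]
  · rw [← Subgroup.map_subgroupOf_eq_of_le hY, ← Subgroup.map_inf _ _ _ X.subtype_injective,
      hC.inf_eq_bot, Subgroup.map_bot]

/-- Conjugation carries complements. -/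
theorem exists_complement_conj {H : Subgroup G} (g : G)
    (h : ∃ C : Subgroup G, H.map (MulAut.conj g).toMonoidHom ⊔ C = ⊤ ∧
      H.map (MulAut.conj g).toMonoidHom ⊓ C = ⊥) :
    ∃ C : Subgroup G, H ⊔ C = ⊤ ∧ H ⊓ C = ⊥ := by
  obtain ⟨C, h1, h2⟩ := h
  refine ⟨C.comap (MulAut.conj g).toMonoidHom, ?_, ?_⟩
  · apply Subgroup.map_injective (f := (MulAut.conj g).toMonoidHom) (MulAut.conj g).injective
    rw [Subgroup.map_sup, Subgroup.map_comap_eq_self_of_surjective (MulAut.conj g).surjective, h1,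
      Subgroup.map_top_of_surjective _ (MulAut.conj g).surjective]
  · apply Subgroup.map_injective (f := (MulAut.conj g).toMonoidHom) (MulAut.conj g).injective
    rw [Subgroup.map_inf _ _ _ (MulAut.conj g).injective,
      Subgroup.map_comap_eq_self_of_surjective (MulAut.conj g).surjective, h2, Subgroup.map_bot]

end Cfsg.Agent.Blocks88
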