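import Mathlib.GroupTheory.Perm.MaximalSubgroups
import Mathlib.GroupTheory.Perm.Subgroup
import Mathlib.Algebra.Group.Subgroup.Basic

/-!
# Setwise stabilisers in symmetric groups
-/

namespace Cfsg.Agent.Blocks88

open MulAction
open scoped Pointwise

variable {Ω : Type*} [DecidableEq Ω]

/-- The stabiliser of a half is not maximal. -/
theorem not_isCoatom_stabilizer [Fintype Ω] (hΩ : 2 < Fintype.card Ω) (O : Set Ω)
    (hO : Nat.card O = Nat.card ↥Oᶜ) : ¬ IsCoatom (stabilizer (Equiv.Perm Ω) O) := by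
  classical
  intro hc
  let K : Subgroup (Equiv.Perm Ω) :=
    { carrier := {σ | σ • O = O ∨ σ • O = Oᶜ}
      one_mem' := Or.inl (one_smul _ _)
      mul_mem' := fun {s t} hs ht => by
        rcases ht with ht | ht <;> rcases hs with hs | hs <;>
          simp only [Set.mem_setOf_eq, mul_smul, ht, hs, Set.smul_set_compl, compl_compl] <;> simp
      inv_mem' := fun {s} hs => by
        rcases hs with hs | hs
        · exact Or.inl (inv_smul_eq_iff.mpr hs.symm)
        · refine Or.inr (inv_smul_eq_iff.mpr ?_)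
          rw [Set.smul_set_compl, hs, compl_compl] }
  have e : O ≃ ↥Oᶜ := Classical.choice (Cardinal.eq.mp (by
    rw [Cardinal.mk_fintype, Cardinal.mk_fintype, ← Nat.card_eq_fintype_card,
      ← Nat.card_eq_fintype_card, hO]))
  let σ : Equiv.Perm Ω := (Equiv.Set.sumCompl O).symm.trans
    ((Equiv.sumCongr e e.symm).trans ((Equiv.sumComm _ _).trans (Equiv.Set.sumCompl O)))
  have hσ : σ • O = Oᶜ := by
    ext x
    rw [Set.mem_smul_set_iff_inv_smul_mem]
    change σ.symm x ∈ O ↔ x ∈ Oᶜ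
    by_cases hx : x ∈ O
    · have : σ.symm x = ((e ⟨x, hx⟩ : ↥Oᶜ) : Ω) := by
        simp [σ, Equiv.Set.sumCompl_symm_apply_of_mem hx]
      rw [this]
      exact iff_of_false (e ⟨x, hx⟩).2 (fun h => h hx)
    · have : σ.symm x = ((e.symm ⟨x, hx⟩ : ↥O) : Ω) := by
        simp [σ, Equiv.Set.sumCompl_symm_apply_of_notMem hx]
      rw [this]
      exact iff_of_true (e.symm ⟨x, hx⟩).2 hx
  have hlt : stabilizer (Equiv.Perm Ω) O < K := by
    refine lt_of_le_of_ne (fun s hs => Or.inl hs) fun h => ?_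
    have h1 : σ ∈ stabilizer (Equiv.Perm Ω) O := h.ge (show σ ∈ K from Or.inr hσ)
    rw [mem_stabilizer_iff, hσ] at h1
    obtain ⟨x⟩ : Nonempty Ω := Fintype.card_pos_iff.mp (by omega)
    by_cases hx : x ∈ O
    · exact (h1.ge hx) hx
    · exact hx (h1.le hx)
  have htop := hc.2 K hlt
  have hsum : Nat.card O + Nat.card ↥Oᶜ = Fintype.card Ω := by
    rw [Nat.card_coe_set_eq, Nat.card_coe_set_eq, Set.ncard_add_ncard_compl,
      Nat.card_eq_fintype_card]
  haveI : Nontrivial ↥O := Finite.one_lt_card_iff_nontrivial.mp (by omega)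
  obtain ⟨⟨a, ha⟩, ⟨a', ha'⟩, hne⟩ := exists_pair_ne ↥O
  obtain ⟨⟨b, hb⟩⟩ : Nonempty ↥Oᶜ := ⟨e ⟨a, ha⟩⟩
  have hm : Equiv.swap a b ∈ K := htop ▸ Subgroup.mem_top _
  rcases hm with h | h
  · have := h.le (Set.smul_mem_smul_set (a := Equiv.swap a b) ha)
    rw [Equiv.Perm.smul_def, Equiv.swap_apply_left] at this
    exact hb this
  · have := h.le (Set.smul_mem_smul_set (a := Equiv.swap a b) ha')
    rw [Equiv.Perm.smul_def, Equiv.swap_apply_of_ne_of_ne
      (fun h' => hne (Subtype.ext h'.symm)) (fun h' : a' = b => hb (h' ▸ ha'))] at this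
    exact this ha'

/-- A point stabiliser and the stabiliser of a set avoiding the point. -/
theorem stabilizer_facts [Finite Ω] (a : Ω) (O : Set Ω) (ha : a ∉ O)
    (hcard : Nat.card Ω ≠ 2 * Nat.card O + 1) (hcard' : Nat.card O + 1 < Nat.card Ω)
    (hO : 2 ≤ Nat.card O) :
    IsCoatom (stabilizer (Equiv.Perm Ω) a) ∧ (stabilizer (Equiv.Perm Ω) a).index = Nat.card Ω ∧
      IsCoatom ((stabilizer (Equiv.Perm Ω) a ⊓ stabilizer (Equiv.Perm Ω) O).subgroupOf
        (stabilizer (Equiv.Perm Ω) a)) ∧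
      ∀ _ : (∃ b ∈ Oᶜ, b ≠ a),
        stabilizer (Equiv.Perm Ω) a ⊓ stabilizer (Equiv.Perm Ω) O < stabilizer (Equiv.Perm Ω) O := by
  classical
  have := Fintype.ofFinite Ω
  haveI : Nonempty ↥O := (Nat.card_pos_iff.mp (by omega)).1
  haveI : Nontrivial Ω := ⟨⟨(Classical.arbitrary ↥O : Ω), a, fun h => ha (h ▸ Subtype.coe_prop _)⟩⟩
  refine ⟨?_, index_stabilizer_of_transitive _ a, ?_, ?_⟩
  · exact IsPreprimitive.isCoatom_stabilizer_of_isPreprimitive _ a
  · let S := {x : Ω // x ≠ a}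
    let f : Equiv.Perm S →* stabilizer (Equiv.Perm Ω) a := Equiv.Perm.ofSubtype.codRestrict _
      fun s => Equiv.Perm.ofSubtype_apply_of_not_mem s (fun h => h rfl)
    have hf : Function.Bijective f := by
      refine ⟨fun x y h => Equiv.Perm.ofSubtype_injective (congrArg Subtype.val h), fun t => ?_⟩
      have ht : ∀ x, x ≠ a ↔ (t : Equiv.Perm Ω) x ≠ a := fun x => by
        have hta : (t : Equiv.Perm Ω) a = a := t.2
        exact ⟨fun h h' => h ((t : Equiv.Perm Ω).injective (h'.trans hta.symm)),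
          fun h h' => h (h' ▸ hta)⟩
      exact ⟨(t : Equiv.Perm Ω).subtypePerm (fun x => (ht x).symm), Subtype.ext
        (Equiv.Perm.ofSubtype_subtypePerm (fun x => (ht x).symm) fun x hx => by
          intro h
          exact hx (h ▸ t.2))⟩
    let e := MulEquiv.ofBijective f hf
    let O' : Set S := {x | (x : Ω) ∈ O}
    have hO' : O'.ncard = Nat.card O := by
      rw [← Nat.card_coe_set_eq]
      exact Nat.card_congr ⟨fun x => ⟨x.1.1, x.2⟩,
        fun y => ⟨⟨y.1, fun h => ha (h ▸ y.2)⟩, y.2⟩, fun _ => rfl, fun _ => rfl⟩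
    have hS : Nat.card S + 1 = Nat.card Ω := by
      rw [Nat.card_eq_fintype_card, Nat.card_eq_fintype_card, Fintype.card_subtype_compl,
        Fintype.card_subtype_eq]
      have := Fintype.card_pos_iff.mpr ⟨a⟩
      omega
    by_cases hne : (O'ᶜ).Nonempty
    · have h := Equiv.Perm.isCoatom_stabilizer
        (Set.nonempty_of_ncard_ne_zero (by omega) : O'.Nonempty) hne (by omega)
      rw [← OrderIso.isCoatom_iff e.mapSubgroup] at h
      convert h using 1
      ext t
      erw [Subgroup.mem_subgroupOf, MulEquiv.mapSubgroup_apply, Subgroup.mem_map_equiv,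
        Subgroup.mem_inf, mem_stabilizer_iff (a := O'), mem_stabilizer_iff (a := O)]
      have hv : ∀ x : S, (t : Equiv.Perm Ω) x = ((e.symm t) x : Ω) := fun x => by
        conv_lhs => rw [← e.apply_symm_apply t]
        exact Equiv.Perm.ofSubtype_apply_coe _ x
      constructor
      · rintro ⟨-, h⟩
        refine Set.eq_of_subset_of_ncard_le ?_ (by rw [Set.ncard_smul_set]) (Set.toFinite _)
        rintro _ ⟨x, hx, rfl⟩
        show ((e.symm t) x : Ω) ∈ O
        rw [← hv]
        exact h.le (Set.smul_mem_smul_set hx)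
      · intro h
        refine ⟨t.2, Set.eq_of_subset_of_ncard_le ?_ (by rw [Set.ncard_smul_set]) (Set.toFinite _)⟩
        rintro _ ⟨x, hx, rfl⟩
        show (t : Equiv.Perm Ω) x ∈ O
        have hx' : (⟨x, fun h' => ha (h' ▸ hx)⟩ : S) ∈ O' := hx
        rw [hv ⟨x, fun h' => ha (h' ▸ hx)⟩]
        exact h.le (Set.smul_mem_smul_set hx')
    · exfalso
      rw [Set.not_nonempty_iff_eq_empty, Set.compl_empty_iff] at hne
      rw [hne, Set.ncard_univ] at hO'
      omega
  · rintro ⟨b, hb, hba⟩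
    refine SetLike.lt_iff_le_and_exists.mpr ⟨inf_le_right, Equiv.swap a b, ?_, fun h => ?_⟩
    · rw [mem_stabilizer_iff]
      refine Set.eq_of_subset_of_ncard_le ?_ (by rw [Set.ncard_smul_set]) (Set.toFinite _)
      rintro _ ⟨x, hx, rfl⟩
      show Equiv.swap a b x ∈ O
      rw [Equiv.swap_apply_of_ne_of_ne (fun h : x = a => ha (h ▸ hx)) (fun h : x = b => hb (h ▸ hx))]
      exact hx
    · have := mem_stabilizer_iff.mp h.1
      rw [Equiv.Perm.smul_def, Equiv.swap_apply_left] at this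
      exact hba this

end Cfsg.Agent.Blocks88
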